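import Cfsg.Agent.Lib.Helper7.AutPSU.Basic
import Cfsg.Agent.Lib.Helper7.AutPSL.FixedField
import Cfsg.Agent.S0780
import Cfsg.Agent.S0781
import Cfsg.Agent.S0783
import Mathlib

/-!
# The kernels of `GU → Aut(PSU)` and `Aut(F) → Aut(PSU)` (helper7)

`SU_n(q)` is perfect, so an automorphism of `SU` inducing the identity on `PSU` is the identity; hence
`DhU g = 1` iff `g` is scalar, and `PhU` is injective.
-/

set_option autoImplicit false

namespace Cfsg.Agent.Lib.H7AutPSU

open Matrix Cfsg Cfsg.Agent.Lib.H7AutPSp Cfsg.Agent.Lib.H7AutPSL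

open scoped commutatorElement

/-! ### automorphisms of a perfect group trivial on the central quotient -/

section generic

variable {G : Type*} [Group G]

theorem comm_mul_central_left (x y z : G) (hz : z ∈ Subgroup.center G) : ⁅x * z, y⁆ = ⁅x, y⁆ := by
  have h1 : z * y = y * z := (Subgroup.mem_center_iff.1 hz y).symm
  rw [commutatorElement_def, commutatorElement_def, _root_.mul_inv_rev]
  calc x * z * y * (z⁻¹ * x⁻¹) * y⁻¹ = x * (z * y) * z⁻¹ * x⁻¹ * y⁻¹ := by group
    _ = x * (y * z) * z⁻¹ * x⁻¹ * y⁻¹ := by rw [h1]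
    _ = x * y * x⁻¹ * y⁻¹ := by group

theorem comm_mul_central_right (x y z : G) (hz : z ∈ Subgroup.center G) : ⁅x, y * z⁆ = ⁅x, y⁆ := by
  have h1 : z * x⁻¹ = x⁻¹ * z := (Subgroup.mem_center_iff.1 hz x⁻¹).symm
  rw [commutatorElement_def, commutatorElement_def, _root_.mul_inv_rev]
  calc x * (y * z) * x⁻¹ * (z⁻¹ * y⁻¹) = x * y * (z * x⁻¹) * z⁻¹ * y⁻¹ := by group
    _ = x * y * (x⁻¹ * z) * z⁻¹ * y⁻¹ := by rw [h1]
    _ = x * y * x⁻¹ * y⁻¹ := by group

/-- an automorphism of a perfect group which is trivial on the central quotient is trivial -/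
theorem eq_one_of_liftC_eq_one (hperf : commutator G = ⊤) (e : MulAut G) (h : liftC e = 1) :
    e = 1 := by
  have hz : ∀ s : G, s⁻¹ * e s ∈ Subgroup.center G := by
    intro s
    rw [← prC_eq_iff, ← liftC_pr, h]
    rfl
  have hfix : commutator G ≤ (MulEquiv.toMonoidHom e : G →* G).eqLocus (MonoidHom.id G) := by
    rw [commutator_eq_closure, Subgroup.closure_le]
    rintro _ ⟨a, b, rfl⟩
    show e ⁅a, b⁆ = ⁅a, b⁆
    rw [map_commutatorElement]
    have ea : e a = a * (a⁻¹ * e a) := by group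
    have eb : e b = b * (b⁻¹ * e b) := by group
    rw [ea, eb, comm_mul_central_left _ _ _ (hz a), comm_mul_central_right _ _ _ (hz b)]
  rw [hperf] at hfix
  ext s
  exact hfix (Subgroup.mem_top s)

theorem liftC_injective_of_perfect (hperf : commutator G = ⊤) :
    Function.Injective (liftC : MulAut G →* MulAut (G ⧸ Subgroup.center G)) := by
  rw [injective_iff_map_eq_one]
  exact eq_one_of_liftC_eq_one hperf

end generic

variable {n : ℕ} {F : Type*} [Field F] [Fintype F] {q : ℕ}

/-- `SU_n(q)` is perfect -/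
theorem su_perfect (hF : Fintype.card F = q ^ 2) (hn : 3 ≤ n) (hs : ¬ (n = 3 ∧ q = 2)) :
    commutator ↥(Cfsg.SU n F q) = ⊤ := by
  have hq := Cfsg.Agent.Lib.Helper5.Herm.one_lt_q hF
  rw [eq_top_iff, ← Cfsg.Agent.S0780.result hF n hn hs, Subgroup.closure_le]
  rintro A ⟨v, c, hv0, hA⟩
  rw [commutator_eq_closure]
  apply Subgroup.subset_closure
  apply Cfsg.Agent.S0781.result hF n _ A v c hv0 hA
  by_cases h4 : 4 ≤ n
  · exact Or.inl h4
  · right
    have hn3 : n = 3 := by omega
    refine ⟨hn3, ?_⟩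
    by_contra hq3
    exact hs ⟨hn3, by omega⟩

/-- a general unitary matrix acting trivially on `SU` by conjugation is scalar -/
theorem scalar_of_conjSU_eq_one (hF : Fintype.card F = q ^ 2) (hn : 1 ≤ n) (g : ↥(Cfsg.GU n F q))
    (h : conjSU g = 1) : ∃ a : Fˣ, g.1.val = (a : F) • (1 : Matrix (Fin n) (Fin n) F) := by
  obtain ⟨h0, hd⟩ := Cfsg.Agent.S0783.scalar_of_commute hF n g.1.val (by
    intro M hdet hM
    obtain ⟨s, hs⟩ : ∃ s : SUn n F q, s.1.1 = M :=
      ⟨⟨(⟨M, hdet⟩ : Matrix.SpecialLinearGroup (Fin n) F), hM⟩, rfl⟩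
    have h1 : conjSUFun g s = s := by
      rw [← conjSU_apply, h]
      rfl
    have h2 : g.1.val * s.1.1 * g.1⁻¹.val = s.1.1 := by
      rw [← conjSUFun_val, h1]
    have h3 : g.1.val * s.1.1 * g.1⁻¹.val * g.1.val = s.1.1 * g.1.val := by rw [h2]
    rw [Matrix.mul_assoc, ← Units.val_mul, inv_mul_cancel, Units.val_one, Matrix.mul_one, hs]
      at h3
    exact h3.symm)
  obtain ⟨a, ha⟩ : ∃ a : F, a = g.1.val ⟨0, hn⟩ ⟨0, hn⟩ := ⟨_, rfl⟩
  have hzm : g.1.val = a • (1 : Matrix (Fin n) (Fin n) F) := by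
    ext i j
    rw [Matrix.smul_apply, Matrix.one_apply, smul_eq_mul]
    split_ifs with hij
    · subst hij
      rw [mul_one, ha]
      exact hd i ⟨0, hn⟩
    · rw [mul_zero]
      exact h0 i j hij
  have ha0 : a ≠ 0 := by
    intro h00
    rw [h00, zero_smul] at hzm
    have h1 : g.1.val * g.1⁻¹.val = 1 := by
      rw [← Units.val_mul, mul_inv_cancel, Units.val_one]
    rw [hzm, Matrix.zero_mul] at h1
    have := congrFun (congrFun h1 ⟨0, hn⟩) ⟨0, hn⟩
    rw [Matrix.zero_apply, Matrix.one_apply_eq] at this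
    exact zero_ne_one this
  exact ⟨Units.mk0 a ha0, hzm⟩

omit [Fintype F] in
theorem conjSUFun_of_scalar (g : ↥(Cfsg.GU n F q)) (a : Fˣ)
    (ha : g.1.val = (a : F) • (1 : Matrix (Fin n) (Fin n) F)) (s : SUn n F q) :
    conjSUFun g s = s := by
  apply su_ext
  rw [conjSUFun_val]
  have h1 : g.1.val * s.1.1 = s.1.1 * g.1.val := by
    rw [ha, Matrix.smul_mul, Matrix.mul_smul, Matrix.one_mul, Matrix.mul_one]
  rw [h1, Matrix.mul_assoc, ← Units.val_mul, mul_inv_cancel, Units.val_one, Matrix.mul_one]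

/-- **the kernel of `GU → Aut(PSU)`** -/
theorem DhU_eq_one_iff (hF : Fintype.card F = q ^ 2) (hn : 3 ≤ n) (hs : ¬ (n = 3 ∧ q = 2))
    (g : ↥(Cfsg.GU n F q)) :
    (DhU g : MulAut (PSUn n F q)) = 1 ↔
      ∃ a : Fˣ, g.1.val = (a : F) • (1 : Matrix (Fin n) (Fin n) F) := by
  constructor
  · intro h
    exact scalar_of_conjSU_eq_one hF (by omega) g
      (eq_one_of_liftC_eq_one (su_perfect hF hn hs) _ h)
  · rintro ⟨a, ha⟩
    apply autC_ext
    intro s
    rw [DhU_pr, conjSUFun_of_scalar g a ha]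
    rfl

theorem DhU_eq_iff (hF : Fintype.card F = q ^ 2) (hn : 3 ≤ n) (hs : ¬ (n = 3 ∧ q = 2))
    (g h : ↥(Cfsg.GU n F q)) :
    (DhU g : MulAut (PSUn n F q)) = DhU h ↔
      ∃ a : Fˣ, g.1.val = (a : F) • h.1.val := by
  have e : (DhU g : MulAut (PSUn n F q)) = DhU h ↔ (DhU (g * h⁻¹) : MulAut (PSUn n F q)) = 1 := by
    rw [map_mul, map_inv, mul_inv_eq_one]
  rw [e, DhU_eq_one_iff hF hn hs]
  have hv : (g * h⁻¹).1.val = g.1.val * h.1⁻¹.val := rfl
  have hh : h.1⁻¹.val * h.1.val = 1 := by rw [← Units.val_mul, inv_mul_cancel, Units.val_one]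
  have hh' : h.1.val * h.1⁻¹.val = 1 := by rw [← Units.val_mul, mul_inv_cancel, Units.val_one]
  constructor
  · rintro ⟨a, ha⟩
    refine ⟨a, ?_⟩
    rw [hv] at ha
    have := congrArg (fun M => M * h.1.val) ha
    simp only [Matrix.mul_assoc, hh, Matrix.mul_one, Matrix.smul_mul, Matrix.one_mul] at this
    exact this
  · rintro ⟨a, ha⟩
    refine ⟨a, ?_⟩
    rw [hv, ha, Matrix.smul_mul, hh']

/-! ### injectivity of `PhU` -/

/-- the number of elements of a finite field is a power of the number of fixed points of an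
automorphism, the exponent being the order -/
theorem card_fixed_pow [DecidableEq F] (σ : RingAut F) :
    Fintype.card F = (Finset.univ.filter (fun x : F => σ x = x)).card ^ orderOf σ := by
  have : Finite (RingAut F) := Finite.of_injective (fun σ : RingAut F => (σ : F → F))
    (fun a b h => RingEquiv.ext (congrFun h))
  have hfo : IsOfFinOrder σ := isOfFinOrder_of_finite σ
  have hfin : Finite (Subgroup.zpowers σ) := Set.finite_coe_iff.2 hfo.finite_zpowers
  let _ : Fintype (Subgroup.zpowers σ) := Fintype.ofFinite _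
  let _ : Fintype (FixedPoints.subfield (Subgroup.zpowers σ) F) := Fintype.ofFinite _
  have h1 : Module.finrank (FixedPoints.subfield (Subgroup.zpowers σ) F) F = orderOf σ := by
    rw [FixedPoints.finrank_eq_card, ← Nat.card_eq_fintype_card, Nat.card_zpowers]
  have h2 := Module.card_eq_pow_finrank (K := FixedPoints.subfield (Subgroup.zpowers σ) F) (V := F)
  rw [h1] at h2
  rw [h2]
  congr 1
  apply Fintype.card_of_subtype
  intro x
  rw [Finset.mem_filter, mem_fixed_iff]
  simp

/-- an automorphism fixing all elements of norm one is trivial -/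
theorem eq_one_of_fix_norm_one (hF : Fintype.card F = q ^ 2) (σ : RingAut F)
    (h : ∀ a : F, a ^ (q + 1) = 1 → σ a = a) : σ = 1 := by
  classical
  have : Finite (RingAut F) := Finite.of_injective (fun σ : RingAut F => (σ : F → F))
    (fun a b h => RingEquiv.ext (congrFun h))
  have hq := Cfsg.Agent.Lib.Helper5.Herm.one_lt_q hF
  by_contra hne
  have hd : 2 ≤ orderOf σ := by
    have h1 : orderOf σ ≠ 1 := fun h1 => hne (orderOf_eq_one_iff.1 h1)
    have h0 : 0 < orderOf σ := orderOf_pos σ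
    omega
  have hcard := card_fixed_pow σ
  rw [hF] at hcard
  have hS : (Finset.univ.filter (fun x : F => x ^ (q + 1) = 1)).card = q + 1 := by
    have h1 := Cfsg.Agent.Lib.Helper5.HermCount.card_norm_fiber hF (1 : F)
    rw [if_neg one_ne_zero, if_pos (one_pow q)] at h1
    exact h1
  have hsub : insert (0 : F) (Finset.univ.filter (fun x : F => x ^ (q + 1) = 1)) ⊆
      Finset.univ.filter (fun x : F => σ x = x) := by
    intro x hx
    rw [Finset.mem_insert] at hx
    rw [Finset.mem_filter]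
    refine ⟨Finset.mem_univ _, ?_⟩
    rcases hx with rfl | hx
    · exact map_zero σ
    · exact h x (Finset.mem_filter.1 hx).2
  have h0 : (0 : F) ∉ Finset.univ.filter (fun x : F => x ^ (q + 1) = 1) := by
    intro h0
    have := (Finset.mem_filter.1 h0).2
    rw [zero_pow (by omega)] at this
    exact zero_ne_one this
  have hle := Finset.card_le_card hsub
  rw [Finset.card_insert_of_notMem h0, hS] at hle
  obtain ⟨T, hT⟩ : ∃ T, T = (Finset.univ.filter (fun x : F => σ x = x)).card := ⟨_, rfl⟩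
  rw [← hT] at hle hcard
  have h2 : T ^ 2 ≤ T ^ orderOf σ := Nat.pow_le_pow_right (by omega) hd
  have h3 : (q + 2) ^ 2 ≤ T ^ 2 := Nat.pow_le_pow_left hle 2
  nlinarith

/-- **`Aut(F) → Aut(PSU)` is injective** -/
theorem PhU_injective (hF : Fintype.card F = q ^ 2) (hn : 3 ≤ n) (hs : ¬ (n = 3 ∧ q = 2)) :
    Function.Injective (PhU : RingAut F →* MulAut (PSUn n F q)) := by
  classical
  rw [injective_iff_map_eq_one]
  intro σ hσ
  have h1 : (fieldSU σ : MulAut (SUn n F q)) = 1 :=
    eq_one_of_liftC_eq_one (su_perfect hF hn hs) _ hσ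
  apply eq_one_of_fix_norm_one hF
  intro a ha
  have ha0 : a ≠ 0 := by
    intro h0
    rw [h0, zero_pow (by omega)] at ha
    exact zero_ne_one ha
  -- the diagonal matrix `diag(a, a⁻¹, 1, …)`
  let i0 : Fin n := ⟨0, by omega⟩
  let i1 : Fin n := ⟨1, by omega⟩
  have h01 : i0 ≠ i1 := by
    intro h
    have := congrArg Fin.val h
    simp [i0, i1] at this
  let d : Fin n → F := fun k => if k = i0 then a else if k = i1 then a⁻¹ else 1
  have hdi : d i0 = a := by simp [d]
  have hdj : d i1 = a⁻¹ := by simp [d, h01.symm]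
  have hd : ∀ k, d k ^ (q + 1) = 1 := by
    intro k
    simp only [d]
    split_ifs
    · exact ha
    · rw [inv_pow, ha, inv_one]
    · exact one_pow _
  have hdet : (Matrix.diagonal d).det = 1 := by
    rw [Matrix.det_diagonal, Finset.prod_eq_mul i0 i1 h01, hdi, hdj, mul_inv_cancel₀ ha0]
    · intro k _ hk
      simp [d, hk.1, hk.2]
    · intro h; exact absurd (Finset.mem_univ _) h
    · intro h; exact absurd (Finset.mem_univ _) h
  obtain ⟨s, hs'⟩ : ∃ s : SUn n F q, s.1.1 = Matrix.diagonal d :=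
    ⟨⟨(⟨Matrix.diagonal d, hdet⟩ : Matrix.SpecialLinearGroup (Fin n) F),
      Cfsg.Agent.S0279.diag_pres n d hd⟩, rfl⟩
  have h2 : fieldSU σ s = s := by rw [h1]; rfl
  have h3 : s.1.1.map σ = s.1.1 := by rw [← fieldSU_val, h2]
  have h4 := congrFun (congrFun h3 i0) i0
  rw [Matrix.map_apply, hs', Matrix.diagonal_apply_eq, hdi] at h4
  exact h4

end Cfsg.Agent.Lib.H7AutPSU
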