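import Cfsg.Agent.Lib.Helper7.AutPSp.Basic
import Cfsg.Agent.Lib.Helper7.AutPSp.Hilbert90Gen
import Cfsg.Prelude.Def_LieTypeDatum
import Mathlib

/-!
# Automorphisms of `PSU_n(q)` induced from `SU_n(q)` (helper7)

Conjugation by general unitary matrices (`DhU`), entrywise field automorphisms (`PhU`), bridges to the
predicates `IsInnerDiagonalAutPSU`, `IsFieldAutPSUOf`, `IsInducedBySemilinearPSU`, and the basic
relations.  The lifting to the central quotient is the generic `liftC` of `AutPSp/Basic`.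
-/

set_option autoImplicit false

namespace Cfsg.Agent.Lib.H7AutPSU

open Matrix Cfsg Cfsg.Agent.Lib.H7AutPSp

variable {n : ℕ} {F : Type*} [Field F] {q : ℕ}

abbrev SUn (n : ℕ) (F : Type*) [Field F] (q : ℕ) := ↥(Cfsg.SU n F q)
abbrev PSUn (n : ℕ) (F : Type*) [Field F] (q : ℕ) := Cfsg.PSU n F q

/-! ### membership -/

theorem mem_SU_iff (s : Matrix.SpecialLinearGroup (Fin n) F) :
    s ∈ Cfsg.SU n F q ↔ ∀ u v : Fin n → F,
      Cfsg.hermForm n F q (s.1 *ᵥ u) (s.1 *ᵥ v) = Cfsg.hermForm n F q u v := Iff.rfl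

theorem mem_GU_iff_form (g : GL (Fin n) F) :
    g ∈ Cfsg.GU n F q ↔ ∀ u v : Fin n → F,
      Cfsg.hermForm n F q (g.val *ᵥ u) (g.val *ᵥ v) = Cfsg.hermForm n F q u v := Iff.rfl

theorem SU_form (s : SUn n F q) (u v : Fin n → F) :
    Cfsg.hermForm n F q (s.1.1 *ᵥ u) (s.1.1 *ᵥ v) = Cfsg.hermForm n F q u v := s.2 u v

theorem GU_form (g : ↥(Cfsg.GU n F q)) (u v : Fin n → F) :
    Cfsg.hermForm n F q (g.1.val *ᵥ u) (g.1.val *ᵥ v) = Cfsg.hermForm n F q u v := g.2 u v

theorem GU_form_inv (g : ↥(Cfsg.GU n F q)) (u v : Fin n → F) :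
    Cfsg.hermForm n F q (g.1⁻¹.val *ᵥ u) (g.1⁻¹.val *ᵥ v) = Cfsg.hermForm n F q u v :=
  (Cfsg.GU n F q).inv_mem g.2 u v

/-! ### conjugation by a general unitary matrix -/

/-- conjugation by a general unitary matrix, on `SU` -/
def conjSUFun (g : ↥(Cfsg.GU n F q)) (s : SUn n F q) : SUn n F q :=
  ⟨(⟨g.1.val * s.1.1 * g.1⁻¹.val, by
      rw [Matrix.det_units_conj]
      exact s.1.2⟩ : Matrix.SpecialLinearGroup (Fin n) F), by
    intro u v
    show Cfsg.hermForm n F q ((g.1.val * s.1.1 * g.1⁻¹.val) *ᵥ u)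
      ((g.1.val * s.1.1 * g.1⁻¹.val) *ᵥ v) = _
    rw [← Matrix.mulVec_mulVec, ← Matrix.mulVec_mulVec, ← Matrix.mulVec_mulVec,
      ← Matrix.mulVec_mulVec, GU_form, SU_form, GU_form_inv]⟩

theorem conjSUFun_val (g : ↥(Cfsg.GU n F q)) (s : SUn n F q) :
    (conjSUFun g s).1.1 = g.1.val * s.1.1 * g.1⁻¹.val := rfl

theorem su_ext {s t : SUn n F q} (h : s.1.1 = t.1.1) : s = t :=
  Subtype.ext (Subtype.ext h)

theorem su_mul_val (s t : SUn n F q) : (s * t).1.1 = s.1.1 * t.1.1 := rfl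

theorem conjSUFun_mul (g : ↥(Cfsg.GU n F q)) (s t : SUn n F q) :
    conjSUFun g (s * t) = conjSUFun g s * conjSUFun g t := by
  apply su_ext
  rw [su_mul_val, conjSUFun_val, conjSUFun_val, conjSUFun_val, su_mul_val]
  have : g.1⁻¹.val * g.1.val = 1 := by rw [← Units.val_mul, inv_mul_cancel, Units.val_one]
  calc g.1.val * (s.1.1 * t.1.1) * g.1⁻¹.val
      = g.1.val * s.1.1 * 1 * t.1.1 * g.1⁻¹.val := by simp only [mul_one, Matrix.mul_assoc]
    _ = _ := by rw [← this]; simp only [Matrix.mul_assoc]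

theorem conjSUFun_comp (g h : ↥(Cfsg.GU n F q)) (s : SUn n F q) :
    conjSUFun g (conjSUFun h s) = conjSUFun (g * h) s := by
  apply su_ext
  rw [conjSUFun_val, conjSUFun_val, conjSUFun_val]
  show _ = (g.1 * h.1).val * s.1.1 * ((g.1 * h.1)⁻¹).val
  rw [_root_.mul_inv_rev, Units.val_mul, Units.val_mul]
  simp only [Matrix.mul_assoc]

theorem conjSUFun_one (s : SUn n F q) : conjSUFun (1 : ↥(Cfsg.GU n F q)) s = s := by
  apply su_ext
  rw [conjSUFun_val]
  show (1 : GL (Fin n) F).val * s.1.1 * ((1 : GL (Fin n) F)⁻¹).val = s.1.1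
  rw [inv_one, Units.val_one, Matrix.one_mul, Matrix.mul_one]

/-- conjugation as a homomorphism `GU → Aut(SU)` -/
def conjSU : ↥(Cfsg.GU n F q) →* MulAut (SUn n F q) where
  toFun g :=
    { toFun := conjSUFun g
      invFun := conjSUFun g⁻¹
      left_inv := fun s => by rw [conjSUFun_comp, inv_mul_cancel, conjSUFun_one]
      right_inv := fun s => by rw [conjSUFun_comp, mul_inv_cancel, conjSUFun_one]
      map_mul' := conjSUFun_mul g }
  map_one' := by
    ext s : 1
    exact conjSUFun_one s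
  map_mul' g h := by
    ext s : 1
    exact (conjSUFun_comp g h s).symm

theorem conjSU_apply (g : ↥(Cfsg.GU n F q)) (s : SUn n F q) : conjSU g s = conjSUFun g s := rfl

/-! ### entrywise field automorphisms -/

theorem herm_map (σ : RingAut F) (u v : Fin n → F) :
    Cfsg.hermForm n F q (fun i => σ (u i)) (fun i => σ (v i)) = σ (Cfsg.hermForm n F q u v) := by
  unfold Cfsg.hermForm
  rw [map_sum]
  apply Finset.sum_congr rfl
  intro i _
  rw [map_mul, map_pow]

theorem map_mulVec_symm (σ : RingAut F) (M : Matrix (Fin n) (Fin n) F) (u : Fin n → F) :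
    M.map σ *ᵥ u = fun i => σ ((M *ᵥ (fun j => σ.symm (u j))) i) := by
  rw [map_mulVecG]
  congr 1
  ext j
  exact (σ.apply_symm_apply (u j)).symm

/-- the image of a form-preserving matrix under a field automorphism preserves the form -/
theorem pres_map (σ : RingAut F) (M : Matrix (Fin n) (Fin n) F)
    (hM : ∀ u v : Fin n → F, Cfsg.hermForm n F q (M *ᵥ u) (M *ᵥ v) = Cfsg.hermForm n F q u v)
    (u v : Fin n → F) :
    Cfsg.hermForm n F q (M.map σ *ᵥ u) (M.map σ *ᵥ v) = Cfsg.hermForm n F q u v := by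
  rw [map_mulVec_symm, map_mulVec_symm, herm_map, hM, ← herm_map]
  congr 1
  · ext j
    exact σ.apply_symm_apply (u j)
  · ext j
    exact σ.apply_symm_apply (v j)

/-- a field automorphism applied to the entries of a special unitary matrix -/
def fieldSUFun (σ : RingAut F) (s : SUn n F q) : SUn n F q :=
  ⟨(⟨s.1.1.map σ, by
      have h := congrArg (σ : F →+* F) s.1.2
      rw [RingHom.map_det, map_one] at h
      exact h⟩ : Matrix.SpecialLinearGroup (Fin n) F), pres_map σ s.1.1 (SU_form s)⟩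

theorem fieldSUFun_val (σ : RingAut F) (s : SUn n F q) : (fieldSUFun σ s).1.1 = s.1.1.map σ := rfl

/-- entrywise field automorphisms as a homomorphism `Aut(F) → Aut(SU)` -/
def fieldSU : RingAut F →* MulAut (SUn n F q) where
  toFun σ :=
    { toFun := fieldSUFun σ
      invFun := fieldSUFun σ.symm
      left_inv := fun s => by
        apply su_ext
        ext i j
        simp [fieldSUFun_val]
      right_inv := fun s => by
        apply su_ext
        ext i j
        simp [fieldSUFun_val]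
      map_mul' := fun s t => by
        apply su_ext
        show (s.1.1 * t.1.1).map σ = s.1.1.map σ * t.1.1.map σ
        ext i j
        simp only [Matrix.map_apply, Matrix.mul_apply, map_sum, map_mul] }
  map_one' := by
    ext s : 1
    apply su_ext
    ext i j
    rfl
  map_mul' σ τ := by
    ext s : 1
    apply su_ext
    ext i j
    rfl

theorem fieldSU_val (σ : RingAut F) (s : SUn n F q) : (fieldSU σ s).1.1 = s.1.1.map σ := rfl

/-! ### the induced automorphisms of `PSU` -/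

/-- inner-diagonal automorphisms -/
noncomputable def DhU : ↥(Cfsg.GU n F q) →* MulAut (PSUn n F q) := liftC.comp conjSU

/-- standard field automorphisms -/
noncomputable def PhU : RingAut F →* MulAut (PSUn n F q) := liftC.comp fieldSU

theorem DhU_pr (g : ↥(Cfsg.GU n F q)) (s : SUn n F q) : DhU g (prC s) = prC (conjSUFun g s) := rfl

theorem PhU_pr (σ : RingAut F) (s : SUn n F q) : PhU σ (prC s) = prC (fieldSUFun σ s) := rfl

/-- the automorphism induced by the semilinear map `v ↦ g σ(v)` -/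
theorem semilinearU_iff (g : ↥(Cfsg.GU n F q)) (σ : RingAut F) (β : MulAut (PSUn n F q)) :
    Cfsg.IsInducedBySemilinearPSU g.1 σ β ↔ β = DhU g * PhU σ := by
  constructor
  · intro h
    apply autC_ext
    intro s
    rw [MulAut.mul_apply, PhU_pr, DhU_pr]
    exact h s (conjSUFun g (fieldSUFun σ s)) rfl
  · rintro rfl s s' hs'
    have e : s' = conjSUFun g (fieldSUFun σ s) := su_ext hs'
    rw [e]
    rfl

theorem fieldU_iff (σ : RingAut F) (β : MulAut (PSUn n F q)) :
    Cfsg.IsFieldAutPSUOf σ β ↔ β = PhU σ := by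
  constructor
  · intro h
    apply autC_ext
    intro s
    rw [PhU_pr]
    exact h s (fieldSUFun σ s) rfl
  · rintro rfl s s' hs'
    have e : s' = fieldSUFun σ s := su_ext hs'
    rw [e]
    rfl

theorem innerDiagU_iff (β : MulAut (PSUn n F q)) :
    Cfsg.IsInnerDiagonalAutPSU β ↔ ∃ g : ↥(Cfsg.GU n F q), β = DhU g := by
  constructor
  · rintro ⟨g, hg, h⟩
    refine ⟨⟨g, hg⟩, ?_⟩
    apply autC_ext
    intro s
    rw [DhU_pr]
    exact h s (conjSUFun ⟨g, hg⟩ s) rfl
  · rintro ⟨g, rfl⟩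
    refine ⟨g.1, g.2, ?_⟩
    intro s s' hs'
    have e : s' = conjSUFun g s := su_ext hs'
    rw [e]
    rfl

/-- `Inndiag(PSU)` is the image of `DhU` -/
theorem inndiagPSU_eq :
    Cfsg.inndiagPSU n F q = (DhU : ↥(Cfsg.GU n F q) →* MulAut (PSUn n F q)).range := by
  unfold Cfsg.inndiagPSU Cfsg.autSubgroupOf
  apply le_antisymm
  · rw [Subgroup.closure_le]
    intro β hβ
    obtain ⟨g, hg⟩ := (innerDiagU_iff β).1 hβ
    exact ⟨g, hg.symm⟩
  · rintro _ ⟨g, rfl⟩
    exact Subgroup.subset_closure ((innerDiagU_iff _).2 ⟨g, rfl⟩)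

/-! ### relations -/

/-- a field automorphism applied to a general unitary matrix -/
def gmapU (σ : RingAut F) : ↥(Cfsg.GU n F q) →* ↥(Cfsg.GU n F q) :=
  ((Matrix.GeneralLinearGroup.map (σ : F →+* F)).comp (Cfsg.GU n F q).subtype).codRestrict _
    (fun g => by
      rw [mem_GU_iff_form]
      exact pres_map σ g.1.val (GU_form g))

theorem gmapU_val (σ : RingAut F) (g : ↥(Cfsg.GU n F q)) :
    (gmapU σ g).1.val = g.1.val.map σ := rfl

theorem gmapU_inv_val (σ : RingAut F) (g : ↥(Cfsg.GU n F q)) :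
    ((gmapU σ g).1⁻¹).val = (g.1⁻¹.val).map σ := by
  have : (gmapU σ g).1⁻¹ = Matrix.GeneralLinearGroup.map (σ : F →+* F) g.1⁻¹ := by
    rw [map_inv]
    rfl
  rw [this]
  rfl

theorem PhU_DhU (σ : RingAut F) (g : ↥(Cfsg.GU n F q)) :
    PhU σ * DhU g = DhU (gmapU σ g) * (PhU σ : MulAut (PSUn n F q)) := by
  apply autC_ext
  intro s
  rw [MulAut.mul_apply, MulAut.mul_apply, DhU_pr, PhU_pr, PhU_pr, DhU_pr]
  congr 1
  apply su_ext
  rw [fieldSUFun_val, conjSUFun_val, conjSUFun_val, fieldSUFun_val, gmapU_val, gmapU_inv_val]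
  ext i j
  simp only [Matrix.map_apply, Matrix.mul_apply, map_sum, map_mul]

theorem gmapU_one (g : ↥(Cfsg.GU n F q)) : gmapU (1 : RingAut F) g = g := by
  apply Subtype.ext
  apply Units.ext
  rw [gmapU_val]
  ext i j
  rfl

theorem gmapU_mul (σ τ : RingAut F) (g : ↥(Cfsg.GU n F q)) :
    gmapU (σ * τ) g = gmapU σ (gmapU τ g) := by
  apply Subtype.ext
  apply Units.ext
  rw [gmapU_val, gmapU_val, gmapU_val]
  ext i j
  rfl

/-! ### the factorisation hypothesis and normality of `Inndiag` -/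

/-- every automorphism is inner-diagonal times field -/
def FacU (n : ℕ) (F : Type*) [Field F] (q : ℕ) : Prop :=
  ∀ β : MulAut (PSUn n F q), ∃ (g : ↥(Cfsg.GU n F q)) (σ : RingAut F), β = DhU g * PhU σ

theorem facU_of_statement
    (h : ∀ β : MulAut (Cfsg.PSU n F q), ∃ (δ φ : MulAut (Cfsg.PSU n F q)) (σ : F ≃+* F),
      Cfsg.IsInnerDiagonalAutPSU δ ∧ Cfsg.IsFieldAutPSUOf σ φ ∧ β = δ * φ) : FacU n F q := by
  intro β
  obtain ⟨δ, φ, σ, hδ, hφ, rfl⟩ := h β
  obtain ⟨g, rfl⟩ := (innerDiagU_iff δ).1 hδ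
  exact ⟨g, σ, by rw [(fieldU_iff σ φ).1 hφ]⟩

theorem DhU_range_normal (hfac : FacU n F q) :
    ((DhU : ↥(Cfsg.GU n F q) →* MulAut (PSUn n F q)).range).Normal := by
  constructor
  rintro _ ⟨h, rfl⟩ β
  obtain ⟨g, σ, rfl⟩ := hfac β
  refine ⟨g * gmapU σ h * g⁻¹, ?_⟩
  rw [map_mul, map_mul, map_inv]
  have e : (PhU σ : MulAut (PSUn n F q)) * DhU h * (PhU σ)⁻¹ = DhU (gmapU σ h) := by
    rw [PhU_DhU, mul_inv_cancel_right]
  calc DhU g * DhU (gmapU σ h) * (DhU g)⁻¹
      = DhU g * (PhU σ * DhU h * (PhU σ)⁻¹) * (DhU g)⁻¹ := by rw [e]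
    _ = _ := by rw [_root_.mul_inv_rev]; simp only [mul_assoc]

end Cfsg.Agent.Lib.H7AutPSU
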