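import Cfsg.Agent.Lib.Helper7.AutPSU.FinalU
import Mathlib

/-!
# Matrices normalising `SU_n(q)` are scalar multiples of unitary matrices (helper7)

Glue for the transport of the factorisation of `Aut(PSU_n(q))` from a model: if an automorphism `θ` of
`PSU_n(q)` is given on classes by `s ↦ g σ(s) g⁻¹` for SOME invertible matrix `g`, then it is induced by the
semilinear map `v ↦ g' σ(v)` with `g'` general unitary (`core_of_conj`).
-/

set_option autoImplicit false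
set_option linter.unusedSectionVars false

namespace Cfsg.Agent.Lib.H7AutPSU

open Matrix Cfsg Cfsg.Agent.Lib.H7AutPSL Cfsg.Agent.Lib.H7AutPSp

universe u

variable {n : ℕ} {F : Type u} [Field F] [Fintype F] {q : ℕ}

/-- special unitary matrices in matrix form -/
theorem SU_mul_transpose (τ : RingAut F) (hτ : ∀ t, τ t = t ^ q) (s : SUn n F q) :
    s.1.1 * (s.1.1.map τ)ᵀ = 1 :=
  GU_mul_transpose τ hτ (toGU s)

/-- an invertible matrix conjugating `SU` into `SU` is a scalar multiple of a unitary matrix -/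
theorem exists_GU_of_normalizes (hF : Fintype.card F = q ^ 2) (hn : 1 ≤ n) (g : GL (Fin n) F)
    (hg : ∀ s : SUn n F q, ∃ t : SUn n F q, t.1.1 = g.val * s.1.1 * g⁻¹.val) :
    ∃ (d : F) (u : ↥(Cfsg.GU n F q)), d ≠ 0 ∧ u.1.val = d • g.val := by
  classical
  obtain ⟨τ, hτ, hτ2, hτ1⟩ := exists_frobAut hF
  have hgg : g⁻¹.val * g.val = 1 := by rw [← Units.val_mul, inv_mul_cancel, Units.val_one]
  have hgg' : g.val * g⁻¹.val = 1 := by rw [← Units.val_mul, mul_inv_cancel, Units.val_one]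
  -- `K = (g^τ)ᵀ g` commutes with `SU`
  obtain ⟨K, hK⟩ : ∃ K, K = (g.val.map τ)ᵀ * g.val := ⟨_, rfl⟩
  have hKcomm : ∀ (M : Matrix (Fin n) (Fin n) F), M.det = 1 →
      (∀ u w, Cfsg.hermForm n F q (M *ᵥ u) (M *ᵥ w) = Cfsg.hermForm n F q u w) →
      M * K = K * M := by
    intro M hdet hM
    obtain ⟨s, hs⟩ : ∃ s : SUn n F q, s.1.1 = M :=
      ⟨⟨(⟨M, hdet⟩ : Matrix.SpecialLinearGroup (Fin n) F), hM⟩, rfl⟩
    -- use `s⁻¹`
    obtain ⟨t, ht⟩ := hg s⁻¹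
    have h1 := SU_mul_transpose τ hτ t
    have hsi : (s⁻¹).1.1 * s.1.1 = 1 := by
      rw [← su_mul_val, inv_mul_cancel]
      rfl
    have hsi' : s.1.1 * (s⁻¹).1.1 = 1 := by
      rw [← su_mul_val, mul_inv_cancel]
      rfl
    have hsU := SU_mul_transpose τ hτ s
    -- `(s⁻¹)^τᵀ = s`
    have hsinvU : ((s⁻¹).1.1.map τ)ᵀ = s.1.1 := by
      have h2 := SU_mul_transpose τ hτ s⁻¹
      calc ((s⁻¹).1.1.map τ)ᵀ = s.1.1 * ((s⁻¹).1.1 * ((s⁻¹).1.1.map τ)ᵀ) := by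
            rw [← Matrix.mul_assoc, hsi', Matrix.one_mul]
        _ = s.1.1 := by rw [h2, Matrix.mul_one]
    rw [ht, map_mulU, map_mulU, Matrix.transpose_mul, Matrix.transpose_mul, hsinvU] at h1
    -- h1 : g s⁻¹ g⁻¹ * ((g⁻¹^τ)ᵀ * (s * (g^τ)ᵀ)) = 1
    have hginvτ : (g.val.map τ)ᵀ * (g⁻¹.val.map τ)ᵀ = 1 := by
      rw [← Matrix.transpose_mul, ← map_mulU, hgg, map_oneU, Matrix.transpose_one]
    -- multiply h1 on the left by `s g⁻¹` and on the right by ... : derive `s K = K s`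
    have h3 : (g⁻¹.val.map τ)ᵀ * (s.1.1 * (g.val.map τ)ᵀ) = g.val * s.1.1 * g⁻¹.val := by
      have h4 : g.val * s.1.1 * g⁻¹.val * (g.val * (s⁻¹).1.1 * g⁻¹.val) = 1 := by
        calc g.val * s.1.1 * g⁻¹.val * (g.val * (s⁻¹).1.1 * g⁻¹.val)
            = g.val * s.1.1 * (g⁻¹.val * g.val) * (s⁻¹).1.1 * g⁻¹.val := by
              simp only [Matrix.mul_assoc]
          _ = 1 := by
              rw [hgg, Matrix.mul_one, Matrix.mul_assoc g.val, hsi', Matrix.mul_one, hgg']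
      calc (g⁻¹.val.map τ)ᵀ * (s.1.1 * (g.val.map τ)ᵀ)
          = (g.val * s.1.1 * g⁻¹.val * (g.val * (s⁻¹).1.1 * g⁻¹.val)) *
              ((g⁻¹.val.map τ)ᵀ * (s.1.1 * (g.val.map τ)ᵀ)) := by rw [h4, Matrix.one_mul]
        _ = g.val * s.1.1 * g⁻¹.val * ((g.val * (s⁻¹).1.1 * g⁻¹.val) *
              ((g⁻¹.val.map τ)ᵀ * (s.1.1 * (g.val.map τ)ᵀ))) := by
            simp only [Matrix.mul_assoc]
        _ = g.val * s.1.1 * g⁻¹.val := by rw [h1, Matrix.mul_one]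
    -- now `s (g^τ)ᵀ g = (g^τ)ᵀ g s`
    rw [← hs, hK]
    calc s.1.1 * ((g.val.map τ)ᵀ * g.val)
        = ((g.val.map τ)ᵀ * (g⁻¹.val.map τ)ᵀ) * (s.1.1 * (g.val.map τ)ᵀ) * g.val := by
          rw [hginvτ, Matrix.one_mul, Matrix.mul_assoc]
      _ = (g.val.map τ)ᵀ * ((g⁻¹.val.map τ)ᵀ * (s.1.1 * (g.val.map τ)ᵀ)) * g.val := by
          simp only [Matrix.mul_assoc]
      _ = (g.val.map τ)ᵀ * (g.val * s.1.1 * g⁻¹.val) * g.val := by rw [h3]
      _ = (g.val.map τ)ᵀ * g.val * s.1.1 * (g⁻¹.val * g.val) := by simp only [Matrix.mul_assoc]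
      _ = (g.val.map τ)ᵀ * g.val * s.1.1 := by rw [hgg, Matrix.mul_one]
  obtain ⟨h0, hd⟩ := Cfsg.Agent.S0783.scalar_of_commute hF n K hKcomm
  obtain ⟨κ, hκ⟩ : ∃ κ : F, κ = K ⟨0, hn⟩ ⟨0, hn⟩ := ⟨_, rfl⟩
  have hKs : K = κ • (1 : Matrix (Fin n) (Fin n) F) := by
    ext i j
    rw [Matrix.smul_apply, Matrix.one_apply, smul_eq_mul]
    split_ifs with hij
    · subst hij
      rw [mul_one, hκ]
      exact hd i ⟨0, hn⟩
    · rw [mul_zero]
      exact h0 i j hij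
  -- `κ` is nonzero and fixed by `τ`
  have hKu : IsUnit K := by
    rw [hK]
    have h1 : IsUnit g.val := g.isUnit
    have h2 : IsUnit (g.val.map τ)ᵀ := by
      rw [Matrix.isUnit_transpose]
      have : g.val.map τ = (τ : F →+* F).mapMatrix g.val := rfl
      rw [this]
      exact h1.map _
    exact h2.mul h1
  have hκ0 : κ ≠ 0 := by
    rintro rfl
    rw [hKs, zero_smul] at hKu
    have h1 := (Matrix.isUnit_iff_isUnit_det _).1 hKu
    have : Nonempty (Fin n) := ⟨⟨0, hn⟩⟩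
    rw [Matrix.det_zero] at h1
    exact not_isUnit_zero h1
  have hκτ : τ κ = κ := by
    have h1 : (K.map τ)ᵀ = K := by
      rw [hK, map_mulU, Matrix.transpose_map, map_map_sq τ hτ2, Matrix.transpose_mul,
        Matrix.transpose_transpose]
    rw [hKs, map_smulU, map_oneU, Matrix.transpose_smul, Matrix.transpose_one] at h1
    have h2 := congrFun (congrFun h1 ⟨0, hn⟩) ⟨0, hn⟩
    rw [Matrix.smul_apply, Matrix.smul_apply, Matrix.one_apply_eq, smul_eq_mul, smul_eq_mul,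
      mul_one, mul_one] at h2
    exact h2
  -- a scalar `d` with `d τ(d) = κ⁻¹`
  obtain ⟨d, hd0, hdd⟩ := norm_surj τ 2 (by norm_num) hτ2 (two_inj hτ1) κ⁻¹ (inv_ne_zero hκ0)
    (by rw [map_inv₀, hκτ])
  rw [fnorm_two] at hdd
  have hu : IsUnit (d • g.val) := by
    rw [Matrix.isUnit_iff_isUnit_det, Matrix.det_smul]
    exact ((IsUnit.mk0 d hd0).pow _).mul ((Matrix.isUnit_iff_isUnit_det _).1 g.isUnit)
  refine ⟨d, ⟨hu.unit, ?_⟩, hd0, IsUnit.unit_spec hu⟩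
  rw [mem_GU_iff τ q hτ, IsUnit.unit_spec]
  apply _root_.mul_eq_one_comm.1
  rw [map_smulU, Matrix.transpose_smul, Matrix.smul_mul, Matrix.mul_smul, smul_smul, ← hK, hKs,
    smul_smul, mul_comm (τ d), hdd, inv_mul_cancel₀ hκ0, one_smul]

/-- **glue**: an automorphism given on classes by `s ↦ g σ(s) g⁻¹`, `g` any invertible matrix, is
induced by a semilinear map with general unitary matrix -/
theorem core_of_conj (hF : Fintype.card F = q ^ 2) (hn : 1 ≤ n) (θ : MulAut (Cfsg.PSU n F q))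
    (g : GL (Fin n) F) (σ : F ≃+* F)
    (h : ∀ s : ↥(Cfsg.SU n F q), ∃ t : ↥(Cfsg.SU n F q),
      t.1.1 = g.val * s.1.1.map σ * g⁻¹.val ∧ θ (QuotientGroup.mk s) = QuotientGroup.mk t) :
    ∃ (g' : GL (Fin n) F) (σ' : F ≃+* F), g' ∈ Cfsg.GU n F q ∧
      Cfsg.IsInducedBySemilinearPSU g' σ' θ := by
  have hnorm : ∀ s : SUn n F q, ∃ t : SUn n F q, t.1.1 = g.val * s.1.1 * g⁻¹.val := by
    intro s
    obtain ⟨t, ht, -⟩ := h (fieldSU (σ : RingAut F).symm s)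
    refine ⟨t, ?_⟩
    rw [ht, fieldSU_val]
    congr 2
    ext i j
    exact σ.apply_symm_apply (s.1.1 i j)
  obtain ⟨d, u, hd0, hu⟩ := exists_GU_of_normalizes hF hn g hnorm
  refine ⟨u.1, σ, u.2, ?_⟩
  intro s s' hs'
  obtain ⟨t, ht, hθ⟩ := h s
  rw [hθ]
  congr 1
  apply su_ext
  rw [ht, hs', hu]
  have hinv : (u.1⁻¹).val = d⁻¹ • g⁻¹.val := by
    have h1 : u.1.val * (d⁻¹ • g⁻¹.val) = 1 := by
      rw [hu, Matrix.smul_mul, Matrix.mul_smul, smul_smul, mul_inv_cancel₀ hd0, one_smul,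
        ← Units.val_mul, mul_inv_cancel, Units.val_one]
    have h2 : (u.1⁻¹).val * u.1.val = 1 := by rw [← Units.val_mul, inv_mul_cancel, Units.val_one]
    calc (u.1⁻¹).val = (u.1⁻¹).val * (u.1.val * (d⁻¹ • g⁻¹.val)) := by rw [h1, Matrix.mul_one]
      _ = d⁻¹ • g⁻¹.val := by rw [← Matrix.mul_assoc, h2, Matrix.one_mul]
  rw [hinv, Matrix.smul_mul, Matrix.smul_mul, Matrix.mul_smul, smul_smul, mul_inv_cancel₀ hd0,
    one_smul]

end Cfsg.Agent.Lib.H7AutPSU
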