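import Cfsg.Agent.Lib.Helper7.AutPSU.CosetU
import Mathlib

/-!
# The coset statement for field automorphisms of `PSU_n(q)` (helper7)
-/

set_option autoImplicit false

namespace Cfsg.Agent.Lib.H7AutPSU

open Matrix Cfsg Cfsg.Agent.Lib.H7AutPSL Cfsg.Agent.Lib.H7AutPSp

universe u

variable {n : ℕ} {F : Type u} [Field F] {q : ℕ}

/-- the data of a field automorphism -/
theorem field_data_U (x : MulAut (PSUn n F q)) (hx : Cfsg.IsFieldAutClassPSU x) :
    ∃ (α : MulAut (PSUn n F q)) (σ : RingAut F), σ ≠ 1 ∧ Odd (orderOf σ) ∧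
      α * x * α⁻¹ = PhU σ := by
  obtain ⟨α, φ, σ, hσ, hodd, hφ, hα⟩ := hx
  exact ⟨α, σ, hσ, hodd, by rw [hα, (fieldU_iff σ φ).1 hφ]⟩

/-- **the coset statement for `PSU`**, given the normality of `Inndiag` -/
theorem field_coset_iff_U [Fintype F] (hF : Fintype.card F = q ^ 2) (hn : 3 ≤ n)
    (hs : ¬ (n = 3 ∧ q = 2))
    [hD : ((DhU : ↥(Cfsg.GU n F q) →* MulAut (PSUn n F q)).range).Normal]
    (x δ : MulAut (PSUn n F q)) (hx : Cfsg.IsFieldAutClassPSU x) {r : ℕ} (hr : r.Prime)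
    (hxr : orderOf x = r) (hδ : δ ∈ Cfsg.inndiagPSU n F q) :
    orderOf (δ * x) = r ↔ Cfsg.IsConjUnder (Cfsg.inndiagPSU n F q) x (δ * x) := by
  rw [inndiagPSU_eq] at hδ ⊢
  constructor
  · intro hy
    obtain ⟨α, σ, hσ, hodd, hα⟩ := field_data_U x hx
    exact field_class_coset_U hF hn hs x δ α σ hσ hodd hα hr hxr hδ hy
  · rintro ⟨h, -, e⟩
    rw [e, ← MulAut.conj_apply, MulEquiv.orderOf_eq]
    exact hxr

end Cfsg.Agent.Lib.H7AutPSU
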