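import Cfsg.Agent.Lib.Helper7.AutPSU.GUHilbert90
import Cfsg.Agent.Lib.Helper7.AutPSL.GraphFieldPGU
import Cfsg.Agent.Lib.Helper7.AutPSL.CosetField
import Mathlib

/-!
# Elements of prime order in a field coset of `Inndiag(PSU_n(q))` (helper7)
-/

set_option autoImplicit false

namespace Cfsg.Agent.Lib.H7AutPSU

open Matrix Cfsg Cfsg.Agent.Lib.H7AutPSL Cfsg.Agent.Lib.H7AutPSp

universe u

variable {n : ℕ} {F : Type u} [Field F] {q : ℕ}

/-! ### the Frobenius involution -/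

/-- the involution `t ↦ t ^ q` of the field with `q²` elements -/
theorem exists_frobAut [Fintype F] (hF : Fintype.card F = q ^ 2) :
    ∃ τ : RingAut F, (∀ t, τ t = t ^ q) ∧ τ ^ 2 = 1 ∧ τ ≠ 1 := by
  have hq := Cfsg.Agent.Lib.Helper5.Herm.one_lt_q hF
  let τ : RingAut F :=
    { toFun := fun t => t ^ q
      invFun := fun t => t ^ q
      left_inv := fun t => Cfsg.Agent.Lib.Helper5.Herm.frob_frob hF t
      right_inv := fun t => Cfsg.Agent.Lib.Helper5.Herm.frob_frob hF t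
      map_mul' := fun a b => mul_pow a b q
      map_add' := fun a b => Cfsg.Agent.Lib.Helper5.Herm.frob_add hF a b }
  have hτ : ∀ t, τ t = t ^ q := fun t => rfl
  refine ⟨τ, hτ, ?_, ?_⟩
  · ext t
    rw [pow_two, RingAut.mul_apply, hτ, hτ, RingAut.one_apply]
    exact Cfsg.Agent.Lib.Helper5.Herm.frob_frob hF t
  · intro h1
    obtain ⟨a, ha, ha2⟩ := Cfsg.Agent.S0279.exists_norm_one_sq_ne hF
    apply ha2
    have h2 : a ^ q = a := by
      rw [← hτ, h1]
      rfl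
    rw [pow_succ, h2] at ha
    exact ha

theorem frob_comm (σ τ : RingAut F) (hτ : ∀ t, τ t = t ^ q) (t : F) : σ (τ t) = τ (σ t) := by
  rw [hτ, hτ, map_pow]

/-! ### scalars -/

/-- the scalar unitary matrix of a norm-one element -/
theorem exists_scalarU (τ : RingAut F) (hτ : ∀ t, τ t = t ^ q) (l : F) (hl : l * τ l = 1) :
    ∃ z : ↥(Cfsg.GU n F q), z.1.val = l • (1 : Matrix (Fin n) (Fin n) F) := by
  have hl0 : l ≠ 0 := by
    rintro rfl
    rw [zero_mul] at hl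
    exact zero_ne_one hl
  have hu : IsUnit (l • (1 : Matrix (Fin n) (Fin n) F)) := by
    rw [Matrix.isUnit_iff_isUnit_det, Matrix.det_smul, Matrix.det_one, mul_one]
    exact (IsUnit.mk0 l hl0).pow _
  refine ⟨⟨hu.unit, ?_⟩, IsUnit.unit_spec hu⟩
  rw [mem_GU_iff τ q hτ, IsUnit.unit_spec]
  have e : ((l • (1 : Matrix (Fin n) (Fin n) F)).map τ)ᵀ = τ l • (1 : Matrix (Fin n) (Fin n) F) := by
    ext i j
    rw [Matrix.transpose_apply, Matrix.map_apply, Matrix.smul_apply, Matrix.smul_apply,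
      Matrix.one_apply, Matrix.one_apply, smul_eq_mul, smul_eq_mul, map_mul]
    by_cases hij : j = i
    · rw [if_pos hij, if_pos hij.symm, map_one]
    · rw [if_neg hij, if_neg (Ne.symm hij), map_zero]
  rw [e, Matrix.smul_mul, Matrix.mul_smul, Matrix.one_mul, smul_smul, hl, one_smul]

/-! ### powers of an element of a field coset -/

/-- the partial norms in `GU` -/
noncomputable def gnormU (σ : RingAut F) (g : ↥(Cfsg.GU n F q)) : ℕ → ↥(Cfsg.GU n F q)
  | 0 => 1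
  | k + 1 => g * gmapU σ (gnormU σ g k)

theorem gnormU_val (σ : RingAut F) (g : ↥(Cfsg.GU n F q)) (k : ℕ) :
    (gnormU σ g k).1.val = pnorm σ g.1.val k := by
  induction k with
  | zero => rfl
  | succ k ih =>
    show (g.1 * (gmapU σ (gnormU σ g k)).1).val = g.1.val * (pnorm σ g.1.val k).map σ
    rw [Units.val_mul, gmapU_val, ih]

theorem coset_pow_U (σ : RingAut F) (g : ↥(Cfsg.GU n F q)) (k : ℕ) :
    (DhU g * PhU σ : MulAut (PSUn n F q)) ^ k = DhU (gnormU σ g k) * PhU (σ ^ k) := by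
  induction k with
  | zero =>
    show _ = DhU (1 : ↥(Cfsg.GU n F q)) * PhU (σ ^ 0)
    rw [pow_zero, pow_zero, map_one, map_one, mul_one]
  | succ k ih =>
    show _ = DhU (g * gmapU σ (gnormU σ g k)) * PhU (σ ^ (k + 1))
    rw [pow_succ', ih, map_mul, pow_succ', map_mul]
    calc DhU g * PhU σ * (DhU (gnormU σ g k) * PhU (σ ^ k))
        = DhU g * (PhU σ * DhU (gnormU σ g k)) * PhU (σ ^ k) := by simp only [mul_assoc]
      _ = _ := by rw [PhU_DhU]; simp only [mul_assoc]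

theorem pnorm_succ_right (σ : RingAut F) (M : Matrix (Fin n) (Fin n) F) (k : ℕ) :
    pnorm σ M (k + 1) = pnorm σ M k * M.map (σ ^ k : RingAut F) := by
  induction k with
  | zero =>
    show M * (1 : Matrix (Fin n) (Fin n) F).map σ = 1 * M.map (σ ^ 0 : RingAut F)
    have h1 : (1 : Matrix (Fin n) (Fin n) F).map σ = 1 := by
      ext i j
      rw [Matrix.map_apply, Matrix.one_apply]
      split_ifs
      · exact map_one σ
      · exact map_zero σ
    rw [h1, Matrix.mul_one, Matrix.one_mul, pow_zero]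
    ext i j
    rfl
  | succ k ih =>
    show M * (pnorm σ M (k + 1)).map σ = M * (pnorm σ M k).map σ * M.map (σ ^ (k + 1) : RingAut F)
    rw [ih, map_mulU, Matrix.mul_assoc]
    congr 2
    ext i j
    rw [pow_succ']
    rfl

theorem GU_mul_transpose (τ : RingAut F) (hτ : ∀ t, τ t = t ^ q) (g : ↥(Cfsg.GU n F q)) :
    g.1.val * (g.1.val.map τ)ᵀ = 1 := (mem_GU_iff τ q hτ g.1).1 g.2

section finite

variable [Fintype F]

/-- **Elements of order `r` in the coset of a field automorphism of odd prime order `r`.** -/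
theorem field_coset_conj_U (hF : Fintype.card F = q ^ 2) (hn : 3 ≤ n) (hs : ¬ (n = 3 ∧ q = 2))
    (σ : RingAut F) (r : ℕ) (hr : r.Prime) (hodd : Odd r) (hσ : orderOf σ = r)
    (g : ↥(Cfsg.GU n F q)) (hy : (DhU g * PhU σ : MulAut (PSUn n F q)) ^ r = 1) :
    ∃ h : ↥(Cfsg.GU n F q), (DhU g * PhU σ : MulAut (PSUn n F q)) =
      DhU h * PhU σ * (DhU h)⁻¹ := by
  obtain ⟨τ, hτ, hτ2, hτ1⟩ := exists_frobAut hF
  have hc := frob_comm σ τ hτ
  have hθ := exists_fixed_not_fixed σ τ hc r hodd hσ hτ2 hτ1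
  have hσr : σ ^ r = 1 := by rw [← hσ]; exact pow_orderOf_eq_one σ
  have hinj : ∀ i j, i < r → j < r → σ ^ i = σ ^ j → i = j := by
    intro i j hi hj hij
    rw [← hσ] at hi hj
    exact pow_injOn_Iio_orderOf (Set.mem_Iio.2 hi) (Set.mem_Iio.2 hj) hij
  -- the norm of `g` is a scalar
  rw [coset_pow_U, hσr, map_one, mul_one, DhU_eq_one_iff hF hn hs] at hy
  obtain ⟨c, hcN⟩ := hy
  have hNU := GU_mul_transpose τ hτ (gnormU σ g r)
  rw [gnormU_val] at hcN
  obtain ⟨M, hM⟩ : ∃ M, M = g.1.val := ⟨_, rfl⟩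
  rw [← hM] at hcN
  have hMM : M * g.1⁻¹.val = 1 := by
    rw [hM, ← Units.val_mul, mul_inv_cancel, Units.val_one]
  have h1map : ∀ ρ : RingAut F, (1 : Matrix (Fin n) (Fin n) F).map ρ = 1 := by
    intro ρ
    ext i j
    rw [Matrix.map_apply, Matrix.one_apply]
    split_ifs
    · exact map_one ρ
    · exact map_zero ρ
  have hsmap : ∀ (ρ : RingAut F) (a : F) (A : Matrix (Fin n) (Fin n) F),
      (a • A).map ρ = ρ a • A.map ρ := by
    intro ρ a A
    ext i j
    rw [Matrix.map_apply, Matrix.smul_apply, Matrix.smul_apply, Matrix.map_apply, smul_eq_mul,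
      smul_eq_mul, map_mul]
  -- the scalar is fixed by `σ`
  have hfix : σ (c : F) = c := by
    have e1 : pnorm σ M (r + 1) = M * (pnorm σ M r).map σ := rfl
    have e2 := pnorm_succ_right σ M r
    rw [hσr, e1, hcN, hsmap, h1map] at e2
    have h2 : M.map (1 : RingAut F) = M := by
      ext i j
      rfl
    rw [h2, Matrix.mul_smul, Matrix.mul_one, Matrix.smul_mul, Matrix.one_mul] at e2
    have e3 : (σ (c : F) • M) * g.1⁻¹.val = ((c : F) • M) * g.1⁻¹.val := by rw [e2]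
    rw [Matrix.smul_mul, Matrix.smul_mul, hMM] at e3
    have e4 := congrFun (congrFun e3 ⟨0, by omega⟩) ⟨0, by omega⟩
    rw [Matrix.smul_apply, Matrix.smul_apply, Matrix.one_apply_eq, smul_eq_mul, smul_eq_mul,
      mul_one, mul_one] at e4
    exact e4
  -- the scalar has norm one
  have hc1 : (c : F) * τ (c : F) = 1 := by
    rw [gnormU_val, ← hM, hcN, hsmap, h1map, Matrix.transpose_smul, Matrix.transpose_one,
      Matrix.smul_mul, Matrix.mul_smul, Matrix.one_mul, smul_smul] at hNU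
    have e4 := congrFun (congrFun hNU ⟨0, by omega⟩) ⟨0, by omega⟩
    rw [Matrix.smul_apply, Matrix.one_apply_eq, smul_eq_mul, mul_one] at e4
    exact e4
  have hcinv : (c : F)⁻¹ * τ (c : F)⁻¹ = 1 := by
    rw [map_inv₀, ← mul_inv, hc1, inv_one]
  obtain ⟨l, hl1, hlN⟩ := norm_one_surj σ τ hc r hr.pos hσr hinj hτ2 hθ (c : F)⁻¹
    (by rw [map_inv₀, hfix]) hcinv
  have hl0 : l ≠ 0 := by
    rintro rfl
    rw [zero_mul] at hl1
    exact zero_ne_one hl1
  -- normalise `g`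
  have hN : pnorm σ (l • M) r = 1 := by
    rw [pnorm_smul, hcN, hlN, smul_smul, inv_mul_cancel₀ c.ne_zero, one_smul]
  have hgU : (l • M) * ((l • M).map τ)ᵀ = 1 := by
    rw [hsmap, Matrix.transpose_smul, Matrix.smul_mul, Matrix.mul_smul, smul_smul, hl1,
      one_smul, hM]
    exact GU_mul_transpose τ hτ g
  obtain ⟨P, hPU, hP⟩ := gu_hilbert90 σ τ hc r hr.pos hσr hinj hτ2 hθ (l • M) hgU hN
  have hPu : IsUnit P := IsUnit.of_mul_eq_one _ hPU
  obtain ⟨h, hh⟩ : ∃ h : ↥(Cfsg.GU n F q), h.1.val = P :=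
    ⟨⟨hPu.unit, (mem_GU_iff τ q hτ _).2 (by rw [IsUnit.unit_spec]; exact hPU)⟩,
      IsUnit.unit_spec hPu⟩
  refine ⟨h, ?_⟩
  have hlinv : l⁻¹ * τ l⁻¹ = 1 := by rw [map_inv₀, ← mul_inv, hl1, inv_one]
  obtain ⟨z, hz⟩ := exists_scalarU (n := n) τ hτ l⁻¹ hlinv
  -- `g σ(h) = l⁻¹ h`
  have e1 : g * gmapU σ h = z * h := by
    apply Subtype.ext
    apply Units.ext
    show (g.1 * (gmapU σ h).1).val = (z.1 * h.1).val
    rw [Units.val_mul, Units.val_mul, gmapU_val, hz, hh, ← hM, Matrix.smul_mul, Matrix.one_mul]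
    rw [Matrix.smul_mul] at hP
    conv_rhs => rw [← hP]
    rw [smul_smul, inv_mul_cancel₀ hl0, one_smul]
  have hz1 : (DhU z : MulAut (PSUn n F q)) = 1 := by
    rw [DhU_eq_one_iff hF hn hs]
    exact ⟨Units.mk0 l⁻¹ (inv_ne_zero hl0), hz⟩
  have e2 : DhU g * DhU (gmapU σ h) = (DhU h : MulAut (PSUn n F q)) := by
    rw [← map_mul, e1, map_mul, hz1, one_mul]
  have e3 := PhU_DhU σ h
  have e4 : DhU g = (DhU h : MulAut (PSUn n F q)) * (DhU (gmapU σ h))⁻¹ := by
    rw [← e2, mul_inv_cancel_right]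
  have e5 : PhU σ * (DhU h : MulAut (PSUn n F q))⁻¹ = (DhU (gmapU σ h))⁻¹ * PhU σ := by
    rw [eq_inv_mul_iff_mul_eq, ← mul_assoc, ← e3, mul_inv_cancel_right]
  rw [e4, mul_assoc, ← e5, ← mul_assoc]

/-- the coset statement for a conjugate of a standard field automorphism -/
theorem field_class_coset_U (hF : Fintype.card F = q ^ 2) (hn : 3 ≤ n) (hs : ¬ (n = 3 ∧ q = 2))
    [hD : ((DhU : ↥(Cfsg.GU n F q) →* MulAut (PSUn n F q)).range).Normal]
    (x δ α : MulAut (PSUn n F q)) (σ : RingAut F) (hσ1 : σ ≠ 1) (hσodd : Odd (orderOf σ))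
    (hα : α * x * α⁻¹ = PhU σ)
    {r : ℕ} (hr : r.Prime) (hxr : orderOf x = r)
    (hδ : δ ∈ (DhU : ↥(Cfsg.GU n F q) →* MulAut (PSUn n F q)).range)
    (hy : orderOf (δ * x) = r) :
    ∃ h' : MulAut (PSUn n F q), h' ∈ (DhU : ↥(Cfsg.GU n F q) →* MulAut (PSUn n F q)).range ∧
      δ * x = h' * x * h'⁻¹ := by
  have := Fact.mk hr
  have hPr : (PhU σ : MulAut (PSUn n F q)) ^ r = 1 := by
    rw [← hα, ← MulAut.conj_apply, ← map_pow, ← hxr, pow_orderOf_eq_one, map_one]
  have hσr : σ ^ r = 1 := by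
    apply PhU_injective hF hn hs
    rw [map_pow, hPr, map_one]
  have hσord : orderOf σ = r := orderOf_eq_prime hσr hσ1
  rw [hσord] at hσodd
  obtain ⟨g, hg⟩ : ∃ g : ↥(Cfsg.GU n F q), DhU g = α * δ * α⁻¹ := hD.conj_mem δ hδ α
  have hpow : (DhU g * PhU σ : MulAut (PSUn n F q)) ^ r = 1 := by
    have : DhU g * PhU σ = MulAut.conj α (δ * x) := by
      rw [MulAut.conj_apply, hg, ← hα]; group
    rw [this, ← map_pow, ← hy, pow_orderOf_eq_one, map_one]
  obtain ⟨h, hh⟩ := field_coset_conj_U hF hn hs σ r hr hσodd hσord g hpow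
  exact conj_transport _ α x δ (PhU σ) (DhU g) (DhU h) hα hg.symm ⟨h, rfl⟩ hh

end finite

end Cfsg.Agent.Lib.H7AutPSU
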