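import Cfsg.Agent.Lib.Helper7.AutPSU.SemidirectU
import Cfsg.Agent.Lib.Lead.AutPSLCountC
import Mathlib

/-!
# `|Aut(PSU_n(q))|`, conditional on the factorisation (helper7)
-/

set_option autoImplicit false
set_option linter.unusedSectionVars false

namespace Cfsg.Agent.Lib.H7AutPSU

open Matrix Cfsg Cfsg.Agent.Lib.H7AutPSL Cfsg.Agent.Lib.H7AutPSp Cfsg.Agent.S0278 Cfsg.Agent.S0783

universe u

variable {n : ℕ} {F : Type u} [Field F] [Fintype F] {q : ℕ}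

/-- the kernel of `DhU` has `q + 1` elements -/
theorem card_ker_DhU (hF : Fintype.card F = q ^ 2) (hn : 3 ≤ n) (hs : ¬ (n = 3 ∧ q = 2)) :
    Nat.card (DhU : ↥(Cfsg.GU n F q) →* MulAut (PSUn n F q)).ker = q + 1 := by
  obtain ⟨τ, hτ, hτ2, hτ1⟩ := exists_frobAut hF
  rw [← card_N1 hF]
  symm
  let f : ↥(N1 F q) → ↥(DhU : ↥(Cfsg.GU n F q) →* MulAut (PSUn n F q)).ker := fun a =>
    ⟨scalarGU n a.1 a.2, (DhU_eq_one_iff hF hn hs _).2 ⟨a.1, rfl⟩⟩
  apply Nat.card_congr (Equiv.ofBijective f ⟨?_, ?_⟩)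
  · intro a b hab
    have h1 : (scalarGU n a.1 a.2 : ↥(Cfsg.GU n F q)).1.val =
        (scalarGU n b.1 b.2 : ↥(Cfsg.GU n F q)).1.val := by
      have := congrArg (fun x : ↥(DhU : ↥(Cfsg.GU n F q) →* MulAut (PSUn n F q)).ker => x.1.1.val) hab
      exact this
    have h2 : ((a : Fˣ) : F) • (1 : Matrix (Fin n) (Fin n) F) = ((b : Fˣ) : F) • 1 := h1
    have h3 := congrFun (congrFun h2 ⟨0, by omega⟩) ⟨0, by omega⟩
    rw [Matrix.smul_apply, Matrix.smul_apply, Matrix.one_apply_eq, smul_eq_mul, smul_eq_mul,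
      mul_one, mul_one] at h3
    exact Subtype.ext (Units.ext h3)
  · rintro ⟨g, hg⟩
    obtain ⟨a, ha⟩ := (DhU_eq_one_iff hF hn hs g).1 hg
    have h1 := GU_mul_transpose τ hτ g
    rw [ha, map_smulU, map_oneU, Matrix.transpose_smul, Matrix.transpose_one, Matrix.smul_mul,
      Matrix.mul_smul, Matrix.one_mul, smul_smul] at h1
    have h2 := congrFun (congrFun h1 ⟨0, by omega⟩) ⟨0, by omega⟩
    rw [Matrix.smul_apply, Matrix.one_apply_eq, smul_eq_mul, mul_one] at h2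
    have ha1 : a ∈ N1 F q := (mem_N1 a).2 ((norm_one_iff τ hτ _).1 h2)
    refine ⟨⟨a, ha1⟩, ?_⟩
    apply Subtype.ext
    apply gu_ext
    exact ha.symm

/-- `|GU_n(q)| = |SU_n(q)| (q + 1)` -/
theorem card_GU (hF : Fintype.card F = q ^ 2) (hn : 1 ≤ n) :
    Nat.card ↥(Cfsg.GU n F q) = Nat.card ↥(Cfsg.SU n F q) * (q + 1) := by
  have h1 := Subgroup.card_mul_index (detN1 hF n : ↥(Cfsg.GU n F q) →* ↥(N1 F q)).ker
  rw [Subgroup.index_ker, MonoidHom.range_eq_top.2 (detN1_surjective hF n hn), Subgroup.card_top,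
    card_N1 hF] at h1
  rw [← h1]
  congr 1
  symm
  let f : ↥(Cfsg.SU n F q) → ↥(detN1 hF n : ↥(Cfsg.GU n F q) →* ↥(N1 F q)).ker := fun s =>
    ⟨toGU s, detN1_toGU hF s⟩
  apply Nat.card_congr (Equiv.ofBijective f ⟨?_, ?_⟩)
  · intro s t hst
    apply su_ext
    have := congrArg (fun x : ↥(detN1 hF n : ↥(Cfsg.GU n F q) →* ↥(N1 F q)).ker => x.1.1.val) hst
    exact this
  · rintro ⟨g, hg⟩
    obtain ⟨s, rfl⟩ := ker_detN1_le hF g hg
    exact ⟨s, rfl⟩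

/-- `|Inndiag(PSU_n(q))| = |SU_n(q)|` -/
theorem card_DhU_range (hF : Fintype.card F = q ^ 2) (hn : 3 ≤ n) (hs : ¬ (n = 3 ∧ q = 2)) :
    Nat.card ↥(DhU : ↥(Cfsg.GU n F q) →* MulAut (PSUn n F q)).range =
      Nat.card ↥(Cfsg.SU n F q) := by
  have h1 := Subgroup.card_mul_index (DhU : ↥(Cfsg.GU n F q) →* MulAut (PSUn n F q)).ker
  rw [Subgroup.index_ker, card_ker_DhU hF hn hs, card_GU hF (by omega), mul_comm] at h1
  exact Nat.eq_of_mul_eq_mul_right (by omega) h1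

/-- **S0815, conditional on the factorisation** -/
theorem card_aut_U (hfac : FacU n F q) (p f : ℕ) [Fact p.Prime] (hq : q = p ^ f)
    (hF : Fintype.card F = q ^ 2) (hn : 3 ≤ n) (hs : ¬ (n = 3 ∧ q = 2)) :
    Nat.card (MulAut (Cfsg.PSU n F q)) =
      Nat.gcd n (q + 1) * (2 * f) * Nat.card (Cfsg.PSU n F q) := by
  have hD := DhU_range_normal hfac
  have hF' : Fintype.card F = p ^ (2 * f) := by rw [hF, hq, ← pow_mul, mul_comm]
  have hchar := Cfsg.Agent.S2690.charP_of_card_pow p (2 * f) hF'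
  have hcard := (Cfsg.Agent.S2602.ringAut_cyclic (F := F) p (2 * f) hF').2
  have h1 := Cfsg.Agent.AutPSLCount.split_card
    (DhU : ↥(Cfsg.GU n F q) →* MulAut (PSUn n F q)).range (PhU : RingAut F →* MulAut (PSUn n F q))
    (by
      intro β
      obtain ⟨g, σ, rfl⟩ := hfac β
      exact ⟨DhU g, ⟨g, rfl⟩, σ, rfl⟩)
    (fun σ hσ => eq_one_of_PhU_mem_range hF hn hs σ hσ)
  have h2 := Subgroup.card_eq_card_quotient_mul_card_subgroup (Subgroup.center ↥(Cfsg.SU n F q))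
  rw [Cfsg.Agent.S0279.result hF n hn] at h2
  have h3 : Nat.card (MulAut (PSUn n F q)) = 2 * f * Nat.card ↥(Cfsg.SU n F q) := by
    rw [h1, hcard, card_DhU_range hF hn hs]
  show Nat.card (MulAut (PSUn n F q)) = _
  rw [h3, h2]
  show 2 * f * (Nat.card (Cfsg.PSU n F q) * Nat.gcd n (q + 1)) = _
  ring

end Cfsg.Agent.Lib.H7AutPSU
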