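import Cfsg.Agent.Lib.Helper7.AutPSU.SplitU
import Cfsg.Agent.Lib.Helper7.AutPSL.FieldCent
import Mathlib

/-!
# The centraliser of a field automorphism in `Inndiag(PSU_n(q))` (helper7)
-/

set_option autoImplicit false
set_option linter.unusedSectionVars false

namespace Cfsg.Agent.Lib.H7AutPSU

open Matrix Cfsg Cfsg.Agent.Lib.H7AutPSL Cfsg.Agent.Lib.H7AutPSp Cfsg.Agent.S0278 Cfsg.Agent.S0783

universe u

variable {n : ℕ} {F : Type u} [Field F] {q : ℕ}

theorem gu_ext {g h : ↥(Cfsg.GU n F q)} (e : g.1.val = h.1.val) : g = h :=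
  Subtype.ext (Units.ext e)

theorem gu_mul_val (g h : ↥(Cfsg.GU n F q)) : (g * h).1.val = g.1.val * h.1.val := rfl

theorem map_smulU (ρ : RingAut F) (a : F) (A : Matrix (Fin n) (Fin n) F) :
    (a • A).map ρ = ρ a • A.map ρ := by
  ext i j
  rw [Matrix.map_apply, Matrix.smul_apply, Matrix.smul_apply, Matrix.map_apply, smul_eq_mul,
    smul_eq_mul, map_mul]

theorem map_oneU (ρ : RingAut F) : (1 : Matrix (Fin n) (Fin n) F).map ρ = 1 := by
  ext i j
  rw [Matrix.map_apply, Matrix.one_apply]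
  split_ifs
  · exact map_one ρ
  · exact map_zero ρ

section finite

variable [Fintype F]

/-- the matrices centralising a field automorphism -/
theorem mem_centGU_field (hF : Fintype.card F = q ^ 2) (hn : 3 ≤ n) (hs : ¬ (n = 3 ∧ q = 2))
    (σ : RingAut F) (g : ↥(Cfsg.GU n F q)) :
    g ∈ centGU (PhU σ : MulAut (PSUn n F q)) ↔
      ∃ a : Fˣ, g.1.val.map σ = (a : F) • g.1.val := by
  rw [mem_centGU, PhU_DhU, mul_left_inj, eq_comm, DhU_eq_iff hF hn hs]
  rfl

/-- the multiplier of a semi-fixed unitary matrix has norm one for `τ` -/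
theorem semifixed_unit_norm (hn : 1 ≤ n) (σ τ : RingAut F) (hτ : ∀ t, τ t = t ^ q)
    (g : ↥(Cfsg.GU n F q)) (a : F) (h : g.1.val.map σ = a • g.1.val) : a * τ a = 1 := by
  have h1 := GU_mul_transpose τ hτ (gmapU σ g)
  rw [gmapU_val, h, map_smulU, Matrix.transpose_smul, Matrix.smul_mul, Matrix.mul_smul, smul_smul,
    GU_mul_transpose τ hτ g] at h1
  have e4 := congrFun (congrFun h1 ⟨0, hn⟩) ⟨0, hn⟩
  rw [Matrix.smul_apply, Matrix.one_apply_eq, smul_eq_mul, mul_one] at e4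
  exact e4

/-- the multiplier of a semi-fixed matrix has norm one for `σ` -/
theorem semifixed_sigma_norm (hn : 1 ≤ n) (σ : RingAut F) (r : ℕ) (hσ : σ ^ r = 1)
    (g : ↥(Cfsg.GU n F q)) (a : F) (h : g.1.val.map σ = a • g.1.val) : fnorm σ a r = 1 := by
  have e := map_pow_of_semifixed σ g.1.val a h r
  rw [hσ] at e
  have e1 : g.1.val.map (1 : RingAut F) = g.1.val := by
    ext i j
    rfl
  rw [e1] at e
  have e2 : g.1.val * g.1⁻¹.val = (fnorm σ a r • g.1.val) * g.1⁻¹.val := by rw [← e]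
  rw [Matrix.smul_mul, ← Units.val_mul, mul_inv_cancel, Units.val_one] at e2
  have e3 := congrFun (congrFun e2 ⟨0, hn⟩) ⟨0, hn⟩
  rw [Matrix.smul_apply, Matrix.one_apply_eq, smul_eq_mul, mul_one] at e3
  exact e3.symm

/-- a matrix centralising a field automorphism is, up to a unitary scalar, fixed by it -/
theorem exists_fixed_rep_U (hF : Fintype.card F = q ^ 2) (hn : 3 ≤ n) (hs : ¬ (n = 3 ∧ q = 2))
    (σ τ : RingAut F) (hτ : ∀ t, τ t = t ^ q) (hτ2 : τ ^ 2 = 1) (r : ℕ) (hr : 0 < r)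
    (hσ : σ ^ r = 1) (hinj : ∀ i j, i < r → j < r → σ ^ i = σ ^ j → i = j)
    (hθ : ∃ θ : F, σ θ = θ ∧ τ θ ≠ θ) (g : ↥(Cfsg.GU n F q))
    (hg : g ∈ centGU (PhU σ : MulAut (PSUn n F q))) :
    ∃ (z : ↥(Cfsg.GU n F q)) (ν : F), ν * τ ν = 1 ∧
      z.1.val = ν • (1 : Matrix (Fin n) (Fin n) F) ∧ gmapU σ (z * g) = z * g := by
  obtain ⟨a, ha⟩ := (mem_centGU_field hF hn hs σ g).1 hg
  have h1 := semifixed_unit_norm (by omega) σ τ hτ g a ha
  have h2 := semifixed_sigma_norm (by omega) σ r hσ g a ha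
  obtain ⟨ν, hν1, hν⟩ := norm_one_ker σ τ (frob_comm σ τ hτ) r hr hσ hinj hτ2 hθ a h1 h2
  obtain ⟨z, hz⟩ := exists_scalarU (n := n) τ hτ ν hν1
  refine ⟨z, ν, hν1, hz, gu_ext ?_⟩
  rw [gmapU_val, gu_mul_val, hz, Matrix.smul_mul, Matrix.one_mul, map_smulU, ha, smul_smul,
    mul_comm, hν]

/-! ### determinants -/

/-- the norm-one elements fixed by `σ` -/
def fixN1 (σ : RingAut F) : Subgroup ↥(N1 F q) := (langHom σ).ker.subgroupOf (N1 F q)

omit [Fintype F] in
theorem mem_fixN1 (σ : RingAut F) (a : ↥(N1 F q)) :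
    a ∈ fixN1 σ ↔ σ ((a : Fˣ) : F) = ((a : Fˣ) : F) := by
  unfold fixN1
  rw [Subgroup.mem_subgroupOf, mem_ker_langHom]

omit [Fintype F] in
/-- norm-one elements in the two descriptions -/
theorem norm_one_iff (τ : RingAut F) (hτ : ∀ t, τ t = t ^ q) (a : F) :
    a * τ a = 1 ↔ a ^ (q + 1) = 1 := by
  rw [hτ, pow_succ, mul_comm]

/-- the diagonal unitary matrix `diag(a, 1, …, 1)` -/
theorem exists_dgU (hn : 1 ≤ n) (a : F) (ha : a ^ (q + 1) = 1) :
    ∃ g : ↥(Cfsg.GU n F q), g.1.val =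
      Matrix.diagonal (fun k : Fin n => if k = ⟨0, hn⟩ then a else 1) := by
  classical
  have ha0 : a ≠ 0 := by
    rintro rfl
    rw [zero_pow (by omega)] at ha
    exact zero_ne_one ha
  have hdet : (Matrix.diagonal (fun k : Fin n => if k = ⟨0, hn⟩ then a else 1)).det ≠ 0 := by
    rw [Matrix.det_diagonal, Finset.prod_ite_eq' Finset.univ (⟨0, hn⟩ : Fin n) (fun _ => a)]
    simpa using ha0
  refine ⟨⟨Matrix.GeneralLinearGroup.mkOfDetNeZero _ hdet, ?_⟩, rfl⟩
  rw [mem_GU_iff_form]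
  apply Cfsg.Agent.S0279.diag_pres
  intro k
  split_ifs
  · exact ha
  · exact one_pow _

theorem det_smul_one (ν : F) : (ν • (1 : Matrix (Fin n) (Fin n) F)).det = ν ^ n := by
  rw [Matrix.det_smul, Matrix.det_one, mul_one, Fintype.card_fin]

/-- **the determinants of the matrices centralising a field automorphism** -/
theorem det_centGU_field (hF : Fintype.card F = q ^ 2) (hn : 3 ≤ n) (hs : ¬ (n = 3 ∧ q = 2))
    (σ τ : RingAut F) (hτ : ∀ t, τ t = t ^ q) (hτ2 : τ ^ 2 = 1) (r : ℕ) (hr : 0 < r)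
    (hσ : σ ^ r = 1) (hinj : ∀ i j, i < r → j < r → σ ^ i = σ ^ j → i = j)
    (hθ : ∃ θ : F, σ θ = θ ∧ τ θ ≠ θ) :
    (centGU (PhU σ : MulAut (PSUn n F q))).map (detN1 hF n) =
      (powMonoidHom n : ↥(N1 F q) →* ↥(N1 F q)).range ⊔ fixN1 σ := by
  classical
  apply le_antisymm
  · rintro _ ⟨g, hg, rfl⟩
    obtain ⟨z, ν, hν1, hz, hfix⟩ := exists_fixed_rep_U hF hn hs σ τ hτ hτ2 r hr hσ hinj hθ g hg
    have hν0 : ν ≠ 0 := by
      rintro rfl
      rw [zero_mul] at hν1
      exact zero_ne_one hν1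
    have hsplit : detN1 hF n g = (detN1 hF n z)⁻¹ * detN1 hF n (z * g) := by
      rw [map_mul, inv_mul_cancel_left]
    rw [hsplit]
    refine Subgroup.mul_mem_sup ?_ ?_
    · apply Subgroup.inv_mem
      refine ⟨⟨Units.mk0 ν hν0, (mem_N1 _).2 ((norm_one_iff τ hτ ν).1 hν1)⟩, ?_⟩
      apply Subtype.ext
      apply Units.ext
      rw [detN1_val, hz, det_smul_one]
      rfl
    · rw [mem_fixN1, detN1_val]
      have h1 : (gmapU σ (z * g)).1.val = (z * g).1.val := by rw [hfix]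
      rw [gmapU_val] at h1
      have h2 := congrArg Matrix.det h1
      have h3 : ((z * g).1.val.map σ).det = σ (z * g).1.val.det := by
        have := RingHom.map_det (σ : F →+* F) (z * g).1.val
        exact this.symm
      rw [h3] at h2
      exact h2
  · rw [sup_le_iff]
    constructor
    · rintro _ ⟨a, rfl⟩
      have ha1 : ((a : Fˣ) : F) * τ ((a : Fˣ) : F) = 1 :=
        (norm_one_iff τ hτ _).2 ((mem_N1 _).1 a.2)
      obtain ⟨z, hz⟩ := exists_scalarU (n := n) τ hτ ((a : Fˣ) : F) ha1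
      refine ⟨z, ?_, ?_⟩
      · rw [SetLike.mem_coe, mem_centGU_field hF hn hs]
        refine ⟨Units.map (σ : F →* F) (a : Fˣ) * (a : Fˣ)⁻¹, ?_⟩
        rw [hz, map_smulU, map_oneU, smul_smul, Units.val_mul, mul_assoc, Units.inv_mul,
          mul_one]
        rfl
      · apply Subtype.ext
        apply Units.ext
        rw [detN1_val, hz, det_smul_one]
        rfl
    · intro a ha
      rw [mem_fixN1] at ha
      obtain ⟨g, hg⟩ := exists_dgU (n := n) (q := q) (by omega) ((a : Fˣ) : F) ((mem_N1 _).1 a.2)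
      refine ⟨g, ?_, ?_⟩
      · rw [SetLike.mem_coe, mem_centGU_field hF hn hs]
        refine ⟨1, ?_⟩
        rw [Units.val_one, one_smul, hg]
        ext i j
        rw [Matrix.map_apply, Matrix.diagonal_apply]
        split_ifs
        · exact ha
        · exact map_one σ
        · exact map_zero σ
      · apply Subtype.ext
        apply Units.ext
        rw [detN1_val, hg, Matrix.det_diagonal,
          Finset.prod_ite_eq' Finset.univ (⟨0, by omega⟩ : Fin n) (fun _ => ((a : Fˣ) : F))]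
        simp

end finite

end Cfsg.Agent.Lib.H7AutPSU
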