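import Cfsg.Agent.Lib.Helper7.AutPSU.FieldCentU
import Cfsg.Agent.Lib.Helper7.AutPSL.FieldCount
import Mathlib

/-!
# The class splitting number of a field automorphism of `PSU_n(q)` (helper7)
-/

set_option autoImplicit false
set_option linter.unusedSectionVars false

namespace Cfsg.Agent.Lib.H7AutPSU

open Matrix Cfsg Cfsg.Agent.Lib.H7AutPSL Cfsg.Agent.Lib.H7AutPSp Cfsg.Agent.S0278 Cfsg.Agent.S0783

universe u

variable {n : ℕ} {F : Type u} [Field F] {q : ℕ} [Fintype F]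

/-- **the class splitting number of a standard field automorphism of `PSU_n(q)`** -/
theorem splitClassCount_field_U (hF : Fintype.card F = q ^ 2) (hn : 3 ≤ n)
    (hs : ¬ (n = 3 ∧ q = 2))
    (σ τ : RingAut F) (hτ : ∀ t, τ t = t ^ q) (hτ2 : τ ^ 2 = 1) (r : ℕ) (hr : 0 < r)
    (hσ : σ ^ r = 1) (hinj : ∀ i j, i < r → j < r → σ ^ i = σ ^ j → i = j)
    (hθ : ∃ θ : F, σ θ = θ ∧ τ θ ≠ θ) (q₀ : ℕ)
    (hfix : Nat.card (fixN1 (q := q) σ) = q₀ + 1) :
    Cfsg.splitClassCount (DhU : ↥(Cfsg.GU n F q) →* MulAut (PSUn n F q)).range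
        (Cfsg.Inn (PSUn n F q)) (PhU σ) = Nat.gcd n ((q + 1) / (q₀ + 1)) := by
  have hdvd : q₀ + 1 ∣ q + 1 := by
    rw [← hfix, ← card_N1 hF]
    exact Subgroup.card_subgroup_dvd_card _
  obtain ⟨m, hm⟩ : ∃ m, m = (q + 1) / (q₀ + 1) := ⟨_, rfl⟩
  have hG : Nat.card ↥(N1 F q) = m * (q₀ + 1) := by
    rw [card_N1 hF, hm, Nat.div_mul_cancel hdvd]
  rw [splitClassCount_psu hF (by omega), det_centGU_field hF hn hs σ τ hτ hτ2 r hr hσ hinj hθ,
    cyclic_subgroup_eq_range_pow (fixN1 σ) (q₀ + 1) m hfix hG, range_pow_sup_range_pow,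
    IsCyclic.index_powMonoidHom_range, hG, ← hm]
  apply Nat.gcd_eq_right
  exact (Nat.gcd_dvd_right n m).trans (dvd_mul_right m _)

end Cfsg.Agent.Lib.H7AutPSU
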