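import Cfsg.Agent.Lib.Helper7.AutPSU.FieldCountU
import Mathlib

/-!
# `C_{Inndiag}(field automorphism) ≅ PGU_n(q₀)` (helper7)
-/

set_option autoImplicit false
set_option linter.unusedSectionVars false

namespace Cfsg.Agent.Lib.H7AutPSU

open Matrix Cfsg Cfsg.Agent.Lib.H7AutPSL Cfsg.Agent.Lib.H7AutPSp Cfsg.Agent.S0278 Cfsg.Agent.S0783

universe u v

variable {n : ℕ} {F : Type u} [Field F] {q : ℕ} {F₀ : Type v} [Field F₀] {q₀ : ℕ}

/-! ### the Frobenius maps of the two fields -/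

/-- in a field with `q₀²` elements, the `q₀^r`-th power is the `q₀`-th power for odd `r` -/
theorem pow_pow_odd [Fintype F₀] (hF₀ : Fintype.card F₀ = q₀ ^ 2) (r : ℕ) (hr : Odd r) (s : F₀) :
    s ^ (q₀ ^ r) = s ^ q₀ := by
  obtain ⟨k, rfl⟩ := hr
  induction k with
  | zero => rw [Nat.mul_zero, Nat.zero_add, pow_one]
  | succ k ih =>
    have e : q₀ ^ (2 * (k + 1) + 1) = q₀ ^ 2 * q₀ ^ (2 * k + 1) := by
      rw [← pow_add]
      congr 1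
      ring
    rw [e, pow_mul, ← hF₀, FiniteField.pow_card, ih]

theorem iota_frob [Fintype F₀] (hF₀ : Fintype.card F₀ = q₀ ^ 2) (r : ℕ) (hr : Odd r)
    (hq : q = q₀ ^ r) (ι : F₀ →+* F) (s : F₀) : ι (s ^ q₀) = (ι s) ^ q := by
  rw [hq, ← map_pow, pow_pow_odd hF₀ r hr]

/-! ### base change -/

/-- base change `GU_n(F₀) → GU_n(F)` -/
def mapGU (ι : F₀ →+* F) (τ₀ : RingAut F₀) (hτ₀ : ∀ s, τ₀ s = s ^ q₀) (τ : RingAut F)
    (hτ : ∀ t, τ t = t ^ q) (hιτ : ∀ s, ι (s ^ q₀) = (ι s) ^ q) :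
    ↥(Cfsg.GU n F₀ q₀) →* ↥(Cfsg.GU n F q) :=
  ((Matrix.GeneralLinearGroup.map ι).comp (Cfsg.GU n F₀ q₀).subtype).codRestrict _
    (fun g => by
      have h1 := (mem_GU_iff τ₀ q₀ hτ₀ g.1).1 g.2
      rw [mem_GU_iff τ q hτ]
      have h2 := congrArg (fun M => M.map ι) h1
      simp only [Matrix.map_mul, Matrix.transpose_map] at h2
      have e : (g.1.val.map τ₀).map ι = (g.1.val.map ι).map τ := by
        ext i j
        rw [Matrix.map_apply, Matrix.map_apply, Matrix.map_apply, Matrix.map_apply, hτ₀, hτ, hιτ]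
      have e1 : (1 : Matrix (Fin n) (Fin n) F₀).map ι = 1 := by
        ext i j
        rw [Matrix.map_apply, Matrix.one_apply, Matrix.one_apply, apply_ite ι, map_one, map_zero]
      show g.1.val.map ι * ((g.1.val.map ι).map τ)ᵀ = 1
      rw [← e, h2, e1])

theorem mapGU_val (ι : F₀ →+* F) (τ₀ : RingAut F₀) (hτ₀ : ∀ s, τ₀ s = s ^ q₀) (τ : RingAut F)
    (hτ : ∀ t, τ t = t ^ q) (hιτ : ∀ s, ι (s ^ q₀) = (ι s) ^ q) (g : ↥(Cfsg.GU n F₀ q₀)) :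
    (mapGU ι τ₀ hτ₀ τ hτ hιτ g).1.val = g.1.val.map ι := rfl

/-! ### the fixed norm-one elements -/

section n1

variable [Fintype F] [Fintype F₀]

/-- the norm-one elements of the small field inside those of the large field -/
def n1Hom (ι : F₀ →+* F) (hιτ : ∀ s, ι (s ^ q₀) = (ι s) ^ q) : ↥(N1 F₀ q₀) →* ↥(N1 F q) :=
  ((Units.map (ι : F₀ →* F)).comp (N1 F₀ q₀).subtype).codRestrict _ (fun a => by
    rw [mem_N1]
    show (ι ((a : F₀ˣ) : F₀)) ^ (q + 1) = 1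
    rw [pow_succ, ← hιτ, ← map_mul, ← pow_succ, (mem_N1 _).1 a.2, map_one])

theorem n1Hom_val (ι : F₀ →+* F) (hιτ : ∀ s, ι (s ^ q₀) = (ι s) ^ q) (a : ↥(N1 F₀ q₀)) :
    (((n1Hom ι hιτ a : ↥(N1 F q)) : Fˣ) : F) = ι ((a : F₀ˣ) : F₀) := rfl

theorem n1Hom_injective (ι : F₀ →+* F) (hιτ : ∀ s, ι (s ^ q₀) = (ι s) ^ q) :
    Function.Injective (n1Hom (q := q) (q₀ := q₀) ι hιτ) := by
  intro a b hab
  apply Subtype.ext
  apply Units.ext
  apply ι.injective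
  rw [← n1Hom_val ι hιτ, ← n1Hom_val ι hιτ, hab]

theorem n1Hom_range (σ : RingAut F) (ι : F₀ →+* F) (hι : ∀ t : F, σ t = t ↔ ∃ s, ι s = t)
    (hιτ : ∀ s, ι (s ^ q₀) = (ι s) ^ q) :
    (n1Hom (q := q) (q₀ := q₀) ι hιτ).range = fixN1 σ := by
  ext b
  rw [mem_fixN1, hι]
  constructor
  · rintro ⟨a, rfl⟩
    exact ⟨_, (n1Hom_val ι hιτ a).symm⟩
  · rintro ⟨s, hs⟩
    have hs0 : s ≠ 0 := by
      rintro rfl
      rw [map_zero] at hs
      exact (b : Fˣ).ne_zero hs.symm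
    have hs1 : s ^ (q₀ + 1) = 1 := by
      apply ι.injective
      rw [map_one, pow_succ, map_mul, hιτ, hs, ← pow_succ]
      exact (mem_N1 _).1 b.2
    refine ⟨⟨Units.mk0 s hs0, (mem_N1 _).2 hs1⟩, ?_⟩
    apply Subtype.ext
    apply Units.ext
    rw [n1Hom_val]
    exact hs

theorem card_fixN1 (hF₀ : Fintype.card F₀ = q₀ ^ 2) (σ : RingAut F) (ι : F₀ →+* F)
    (hι : ∀ t : F, σ t = t ↔ ∃ s, ι s = t) (hιτ : ∀ s, ι (s ^ q₀) = (ι s) ^ q) :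
    Nat.card (fixN1 (q := q) σ) = q₀ + 1 := by
  rw [← n1Hom_range σ ι hι hιτ,
    ← Nat.card_congr (MonoidHom.ofInjective (n1Hom_injective ι hιτ)).toEquiv, card_N1 hF₀]

end n1

/-! ### the centraliser -/

section finite

variable [Fintype F]

/-- the homomorphism `GU_n(F₀) → C_{Inndiag}(PhU σ)` -/
noncomputable def guHomU (hF : Fintype.card F = q ^ 2) (hn : 3 ≤ n) (hs : ¬ (n = 3 ∧ q = 2))
    (σ : RingAut F) (ι : F₀ →+* F) (hισ : ∀ s, σ (ι s) = ι s)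
    (τ₀ : RingAut F₀) (hτ₀ : ∀ s, τ₀ s = s ^ q₀) (τ : RingAut F)
    (hτ : ∀ t, τ t = t ^ q) (hιτ : ∀ s, ι (s ^ q₀) = (ι s) ^ q) :
    ↥(Cfsg.GU n F₀ q₀) →* ↥((DhU : ↥(Cfsg.GU n F q) →* MulAut (PSUn n F q)).range ⊓
      Subgroup.centralizer {(PhU σ : MulAut (PSUn n F q))}) :=
  (DhU.comp (mapGU ι τ₀ hτ₀ τ hτ hιτ)).codRestrict _ (fun g => by
    refine Subgroup.mem_inf.2 ⟨⟨_, rfl⟩, ?_⟩
    have h1 : mapGU ι τ₀ hτ₀ τ hτ hιτ g ∈ centGU (PhU σ : MulAut (PSUn n F q)) := by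
      rw [mem_centGU_field hF hn hs]
      refine ⟨1, ?_⟩
      rw [Units.val_one, one_smul, mapGU_val]
      ext i j
      exact hισ (g.1.val i j)
    exact h1)

theorem guHomU_val (hF : Fintype.card F = q ^ 2) (hn : 3 ≤ n) (hs : ¬ (n = 3 ∧ q = 2))
    (σ : RingAut F) (ι : F₀ →+* F) (hισ : ∀ s, σ (ι s) = ι s)
    (τ₀ : RingAut F₀) (hτ₀ : ∀ s, τ₀ s = s ^ q₀) (τ : RingAut F)
    (hτ : ∀ t, τ t = t ^ q) (hιτ : ∀ s, ι (s ^ q₀) = (ι s) ^ q) (g : ↥(Cfsg.GU n F₀ q₀)) :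
    ((guHomU hF hn hs σ ι hισ τ₀ hτ₀ τ hτ hιτ g :
      ↥((DhU : ↥(Cfsg.GU n F q) →* MulAut (PSUn n F q)).range ⊓
      Subgroup.centralizer {(PhU σ : MulAut (PSUn n F q))})) : MulAut (PSUn n F q)) =
      DhU (mapGU ι τ₀ hτ₀ τ hτ hιτ g) := rfl

theorem guHomU_surjective (hF : Fintype.card F = q ^ 2) (hn : 3 ≤ n) (hs : ¬ (n = 3 ∧ q = 2))
    (σ : RingAut F) (ι : F₀ →+* F) (hι : ∀ t : F, σ t = t ↔ ∃ s, ι s = t)
    (τ₀ : RingAut F₀) (hτ₀ : ∀ s, τ₀ s = s ^ q₀) (τ : RingAut F)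
    (hτ : ∀ t, τ t = t ^ q) (hιτ : ∀ s, ι (s ^ q₀) = (ι s) ^ q)
    (hτ2 : τ ^ 2 = 1) (r : ℕ) (hr : 0 < r)
    (hσ : σ ^ r = 1) (hinj : ∀ i j, i < r → j < r → σ ^ i = σ ^ j → i = j)
    (hθ : ∃ θ : F, σ θ = θ ∧ τ θ ≠ θ) :
    Function.Surjective
      (guHomU hF hn hs σ ι (fun s => (hι (ι s)).2 ⟨s, rfl⟩) τ₀ hτ₀ τ hτ hιτ) := by
  rintro ⟨c, hc⟩
  obtain ⟨⟨g, rfl⟩, hcent⟩ := Subgroup.mem_inf.1 hc
  have hg : g ∈ centGU (PhU σ : MulAut (PSUn n F q)) := hcent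
  obtain ⟨z, ν, hν1, hz, hfix⟩ := exists_fixed_rep_U hF hn hs σ τ hτ hτ2 r hr hσ hinj hθ g hg
  have hν0 : ν ≠ 0 := by
    rintro rfl
    rw [zero_mul] at hν1
    exact zero_ne_one hν1
  obtain ⟨g', hg'⟩ : ∃ g', g' = z * g := ⟨_, rfl⟩
  rw [← hg'] at hfix
  have hentry : ∀ i j, ∃ s, ι s = g'.1.val i j := by
    intro i j
    rw [← hι]
    have h1 : (gmapU σ g').1.val = g'.1.val := by rw [hfix]
    rw [gmapU_val] at h1
    have := congrFun (congrFun h1 i) j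
    rw [Matrix.map_apply] at this
    exact this
  choose M₀ hM₀ using hentry
  have hmap : (Matrix.of M₀).map ι = g'.1.val := by
    ext i j
    rw [Matrix.map_apply, Matrix.of_apply, hM₀]
  have hinjm : Function.Injective (fun M : Matrix (Fin n) (Fin n) F₀ => M.map ι) := by
    intro A B hAB
    ext i j
    have := congrFun (congrFun hAB i) j
    simp only [Matrix.map_apply] at this
    exact ι.injective this
  have hform : Matrix.of M₀ * ((Matrix.of M₀).map τ₀)ᵀ = 1 := by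
    apply hinjm
    simp only [Matrix.map_mul, Matrix.transpose_map]
    have e : ((Matrix.of M₀).map τ₀).map ι = ((Matrix.of M₀).map ι).map τ := by
      ext i j
      rw [Matrix.map_apply, Matrix.map_apply, Matrix.map_apply, Matrix.map_apply, hτ₀, hτ, hιτ]
    have e1 : (1 : Matrix (Fin n) (Fin n) F₀).map ι = 1 := by
      ext i j
      rw [Matrix.map_apply, Matrix.one_apply, Matrix.one_apply, apply_ite ι, map_one, map_zero]
    rw [e1, e, hmap]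
    exact GU_mul_transpose τ hτ g'
  have hdet : (Matrix.of M₀).det ≠ 0 := by
    intro h0
    have h1 : ι (Matrix.of M₀).det = g'.1.val.det := by
      rw [RingHom.map_det, RingHom.mapMatrix_apply, hmap]
    rw [h0, map_zero] at h1
    have h2 : IsUnit g'.1.val.det := (Matrix.isUnit_iff_isUnit_det _).1 g'.1.isUnit
    exact h2.ne_zero h1.symm
  refine ⟨⟨Matrix.GeneralLinearGroup.mkOfDetNeZero (Matrix.of M₀) hdet,
    (mem_GU_iff τ₀ q₀ hτ₀ _).2 hform⟩, ?_⟩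
  apply Subtype.ext
  rw [guHomU_val]
  have e : mapGU ι τ₀ hτ₀ τ hτ hιτ ⟨Matrix.GeneralLinearGroup.mkOfDetNeZero (Matrix.of M₀) hdet,
      (mem_GU_iff τ₀ q₀ hτ₀ _).2 hform⟩ = g' := by
    apply gu_ext
    rw [mapGU_val]
    exact hmap
  have hz1 : (DhU z : MulAut (PSUn n F q)) = 1 := by
    rw [DhU_eq_one_iff hF hn hs]
    exact ⟨Units.mk0 ν hν0, hz⟩
  rw [e, hg', map_mul, hz1, one_mul]

theorem guHomU_ker (hF : Fintype.card F = q ^ 2) (hn : 3 ≤ n) (hs : ¬ (n = 3 ∧ q = 2))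
    (σ : RingAut F) (ι : F₀ →+* F) (hισ : ∀ s, σ (ι s) = ι s)
    (τ₀ : RingAut F₀) (hτ₀ : ∀ s, τ₀ s = s ^ q₀) (τ : RingAut F)
    (hτ : ∀ t, τ t = t ^ q) (hιτ : ∀ s, ι (s ^ q₀) = (ι s) ^ q) :
    (guHomU hF hn hs σ ι hισ τ₀ hτ₀ τ hτ hιτ).ker =
      (Cfsg.Geo.scalars (Fin n) F₀).subgroupOf (Cfsg.GU n F₀ q₀) := by
  ext h
  rw [MonoidHom.mem_ker, Subtype.ext_iff, guHomU_val, Subgroup.mem_subgroupOf,
    Cfsg.Geo.mem_scalars_iff]
  show (DhU (mapGU ι τ₀ hτ₀ τ hτ hιτ h) : MulAut (PSUn n F q)) = 1 ↔ _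
  rw [DhU_eq_one_iff hF hn hs, mapGU_val]
  have hn1 : 1 ≤ n := by omega
  constructor
  · rintro ⟨a, ha⟩
    have hent : ∀ i j, ι (h.1.val i j) = if i = j then (a : F) else 0 := by
      intro i j
      have := congrFun (congrFun ha i) j
      rw [Matrix.map_apply, Matrix.smul_apply, Matrix.one_apply, smul_eq_mul, mul_ite, mul_one,
        mul_zero] at this
      exact this
    have ha₀ : ι (h.1.val ⟨0, hn1⟩ ⟨0, hn1⟩) = a := by
      rw [hent, if_pos rfl]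
    have h0 : h.1.val ⟨0, hn1⟩ ⟨0, hn1⟩ ≠ 0 := by
      intro h0
      rw [h0, map_zero] at ha₀
      exact a.ne_zero ha₀.symm
    refine ⟨Units.mk0 _ h0, ?_⟩
    ext i j
    apply ι.injective
    rw [hent, Units.val_mk0, Matrix.smul_apply, Matrix.one_apply, smul_eq_mul, mul_ite, mul_one,
      mul_zero, apply_ite ι, ha₀, map_zero]
  · rintro ⟨a₀, ha₀⟩
    refine ⟨Units.map (ι : F₀ →* F) a₀, ?_⟩
    rw [ha₀]
    ext i j
    rw [Matrix.map_apply, Matrix.smul_apply, Matrix.smul_apply, Matrix.one_apply, Matrix.one_apply,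
      smul_eq_mul, smul_eq_mul, map_mul, apply_ite ι, map_one, map_zero]
    rfl

/-- **`C_{Inndiag}(PhU σ) ≅ PGU_n(q₀)`** -/
theorem nonempty_cent_field_equiv_U (hF : Fintype.card F = q ^ 2) (hn : 3 ≤ n)
    (hs : ¬ (n = 3 ∧ q = 2))
    (σ : RingAut F) (ι : F₀ →+* F) (hι : ∀ t : F, σ t = t ↔ ∃ s, ι s = t)
    (τ₀ : RingAut F₀) (hτ₀ : ∀ s, τ₀ s = s ^ q₀) (τ : RingAut F)
    (hτ : ∀ t, τ t = t ^ q) (hιτ : ∀ s, ι (s ^ q₀) = (ι s) ^ q)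
    (hτ2 : τ ^ 2 = 1) (r : ℕ) (hr : 0 < r)
    (hσ : σ ^ r = 1) (hinj : ∀ i j, i < r → j < r → σ ^ i = σ ^ j → i = j)
    (hθ : ∃ θ : F, σ θ = θ ∧ τ θ ≠ θ) :
    Nonempty (↥((DhU : ↥(Cfsg.GU n F q) →* MulAut (PSUn n F q)).range ⊓
      Subgroup.centralizer {(PhU σ : MulAut (PSUn n F q))}) ≃* Cfsg.PGU n F₀ q₀) := by
  have e1 := QuotientGroup.quotientKerEquivOfSurjective _
    (guHomU_surjective hF hn hs σ ι hι τ₀ hτ₀ τ hτ hιτ hτ2 r hr hσ hinj hθ)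
  have e2 := QuotientGroup.quotientMulEquivOfEq
    (guHomU_ker hF hn hs σ ι (fun s => (hι (ι s)).2 ⟨s, rfl⟩) τ₀ hτ₀ τ hτ hιτ)
  exact ⟨e1.symm.trans e2⟩

end finite

end Cfsg.Agent.Lib.H7AutPSU
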