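import Cfsg.Agent.Lib.Helper7.AutPSU.OutU
import Mathlib

/-!
# The statements about `Aut(PSU_n(q))`, from the core factorisation (helper7)

`hcore` is the conclusion of lead's `FacU_core`: every automorphism of `PSU_n(q)` is induced by a semilinear
map `v ↦ g σ(v)` with `g` general unitary.  Each theorem below has the conclusion of the named statement.
-/

set_option autoImplicit false
set_option linter.unusedSectionVars false
set_option linter.unusedVariables false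

namespace Cfsg.Agent.Lib.H7AutPSU

open Matrix Cfsg Cfsg.Agent.Lib.H7AutPSL Cfsg.Agent.Lib.H7AutPSp

universe u v

variable {n : ℕ} {F : Type u} [Field F] {q : ℕ}

/-- the core factorisation gives `FacU` -/
theorem facU_of_core
    (hcore : ∀ β : MulAut (Cfsg.PSU n F q), ∃ (g : GL (Fin n) F) (σ : F ≃+* F),
      g ∈ Cfsg.GU n F q ∧ Cfsg.IsInducedBySemilinearPSU g σ β) : FacU n F q := by
  intro β
  obtain ⟨g, σ, hg, h⟩ := hcore β
  exact ⟨⟨g, hg⟩, σ, (semilinearU_iff ⟨g, hg⟩ σ β).1 h⟩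

/-- S2692 from `FacU` -/
theorem s2692_of_facU (hfac : FacU n F q) (β : MulAut (Cfsg.PSU n F q)) :
    ∃ (δ φ : MulAut (Cfsg.PSU n F q)) (σ : F ≃+* F),
      Cfsg.IsInnerDiagonalAutPSU δ ∧ Cfsg.IsFieldAutPSUOf σ φ ∧ β = δ * φ := by
  obtain ⟨g, σ, rfl⟩ := hfac β
  exact ⟨DhU g, PhU σ, σ, (innerDiagU_iff _).2 ⟨g, rfl⟩, (fieldU_iff σ _).2 rfl, rfl⟩

/-- S2711 from `FacU` -/
theorem s2711_of_facU [Fintype F] (hfac : FacU n F q) (hF : Fintype.card F = q ^ 2) (hn : 3 ≤ n)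
    (hs : ¬ (n = 3 ∧ q = 2)) (x δ : MulAut (Cfsg.PSU n F q)) (hx : Cfsg.IsFieldAutClassPSU x)
    {r : ℕ} (hr : r.Prime) (hxr : orderOf x = r) (hδ : δ ∈ Cfsg.inndiagPSU n F q) :
    orderOf (δ * x) = r ↔ Cfsg.IsConjUnder (Cfsg.inndiagPSU n F q) x (δ * x) := by
  have hD := DhU_range_normal hfac
  exact field_coset_iff_U hF hn hs x δ hx hr hxr hδ

end Cfsg.Agent.Lib.H7AutPSU
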