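import Cfsg.Agent.Lib.Helper7.AutPSU.Kernel
import Mathlib

/-!
# Restricting an automorphism to the fixed field of a commuting automorphism (helper7)
-/

set_option autoImplicit false

namespace Cfsg.Agent.Lib.H7AutPSU

open Cfsg.Agent.Lib.H7AutPSL

variable {F : Type*} [Field F]

/-- the fixed field of `σ` -/
abbrev FixK (σ : RingAut F) : Subfield F := FixedPoints.subfield (Subgroup.zpowers σ) F

theorem comm_symm (σ τ : RingAut F) (hc : ∀ t, σ (τ t) = τ (σ t)) (t : F) :
    σ (τ.symm t) = τ.symm (σ t) := by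
  apply τ.injective
  rw [← hc, τ.apply_symm_apply, τ.apply_symm_apply]

/-- the restriction of `τ` to the fixed field of `σ`, as a ring homomorphism -/
def resHom (σ τ : RingAut F) (hc : ∀ t, σ (τ t) = τ (σ t)) : FixK σ →+* FixK σ :=
  ((τ : F →+* F).comp (FixK σ).subtype).codRestrict (FixK σ) (fun x => by
    rw [mem_fixed_iff]
    show σ (τ x.1) = τ x.1
    rw [hc, (mem_fixed_iff σ _).1 x.2])

theorem resHom_val (σ τ : RingAut F) (hc : ∀ t, σ (τ t) = τ (σ t)) (x : FixK σ) :
    ((resHom σ τ hc x : FixK σ) : F) = τ x.1 := rfl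

/-- the restriction of `τ` to the fixed field of `σ` -/
def resAut (σ τ : RingAut F) (hc : ∀ t, σ (τ t) = τ (σ t)) : RingAut (FixK σ) :=
  RingEquiv.ofRingHom (resHom σ τ hc) (resHom σ τ.symm (comm_symm σ τ hc))
    (by
      ext x
      rw [RingHom.comp_apply, resHom_val, resHom_val]
      exact τ.apply_symm_apply _)
    (by
      ext x
      rw [RingHom.comp_apply, resHom_val, resHom_val]
      exact τ.symm_apply_apply _)

theorem resAut_val (σ τ : RingAut F) (hc : ∀ t, σ (τ t) = τ (σ t)) (x : FixK σ) :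
    ((resAut σ τ hc x : FixK σ) : F) = τ x.1 := rfl

theorem resAut_sq (σ τ : RingAut F) (hc : ∀ t, σ (τ t) = τ (σ t)) (hτ2 : τ ^ 2 = 1) :
    resAut σ τ hc ^ 2 = 1 := by
  ext x
  rw [pow_two, RingAut.mul_apply, resAut_val, resAut_val, RingAut.one_apply]
  have := DFunLike.congr_fun hτ2 x.1
  rw [pow_two] at this
  exact this

theorem resAut_ne_one (σ τ : RingAut F) (hc : ∀ t, σ (τ t) = τ (σ t))
    (h : ∃ θ : F, σ θ = θ ∧ τ θ ≠ θ) : resAut σ τ hc ≠ 1 := by
  obtain ⟨θ, h1, h2⟩ := h
  intro h3
  apply h2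
  have := DFunLike.congr_fun h3 ⟨θ, (mem_fixed_iff σ θ).2 h1⟩
  exact congrArg Subtype.val this

/-! ### an element fixed by `σ` and moved by `τ` -/

theorem exists_fixed_not_fixed [Fintype F] (σ τ : RingAut F) (hc : ∀ t, σ (τ t) = τ (σ t))
    (r : ℕ) (hr : Odd r) (hσ : orderOf σ = r) (hτ2 : τ ^ 2 = 1) (hτ1 : τ ≠ 1) :
    ∃ θ : F, σ θ = θ ∧ τ θ ≠ θ := by
  classical
  by_contra hcon
  simp only [not_exists, not_and, not_not] at hcon
  have hcomm : Commute σ τ := by
    ext t
    exact hc t
  have hτo : orderOf τ = 2 := by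
    have := Fact.mk Nat.prime_two
    exact orderOf_eq_prime hτ2 hτ1
  have hρo : orderOf (σ * τ) = r * 2 := by
    rw [hcomm.orderOf_mul_eq_mul_orderOf_of_coprime, hσ, hτo]
    rw [hσ, hτo]
    exact (Nat.coprime_two_right.2 hr)
  have hρpow : (σ * τ) ^ (r + 1) = σ := by
    obtain ⟨k, hk⟩ := hr
    have e : r + 1 = 2 * (k + 1) := by omega
    rw [hcomm.mul_pow, e, pow_mul τ, hτ2, one_pow, mul_one, ← e, pow_succ, ← hσ, pow_orderOf_eq_one,
      one_mul]
  have hset : Finset.univ.filter (fun x : F => σ x = x) =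
      Finset.univ.filter (fun x : F => (σ * τ) x = x) := by
    ext x
    simp only [Finset.mem_filter, Finset.mem_univ, true_and]
    constructor
    · intro h
      rw [RingAut.mul_apply, hcon x h, h]
    · intro h
      have h2 : ((σ * τ) ^ (r + 1)) x = x := by
        have : ∀ k : ℕ, ((σ * τ) ^ k) x = x := by
          intro k
          induction k with
          | zero => rfl
          | succ k ih => rw [pow_succ, RingAut.mul_apply, h, ih]
        exact this _
      rw [hρpow] at h2
      exact h2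
  have h1 := card_fixed_pow σ
  have h2 := card_fixed_pow (σ * τ)
  rw [← hset, hρo, h1, hσ] at h2
  have hT : 2 ≤ (Finset.univ.filter (fun x : F => σ x = x)).card := by
    have hsub : ({0, 1} : Finset F) ⊆ Finset.univ.filter (fun x : F => σ x = x) := by
      intro x hx
      rw [Finset.mem_insert, Finset.mem_singleton] at hx
      rw [Finset.mem_filter]
      refine ⟨Finset.mem_univ _, ?_⟩
      rcases hx with rfl | rfl
      · exact map_zero σ
      · exact map_one σ
    have := Finset.card_le_card hsub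
    rwa [Finset.card_pair zero_ne_one] at this
  have h3 := Nat.pow_right_injective hT h2
  obtain ⟨k, hk⟩ := hr
  omega

end Cfsg.Agent.Lib.H7AutPSU
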