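import Cfsg.Agent.Lib.Helper7.AutPSU.NormOne
import Mathlib

/-!
# Hilbert's Theorem 90 for the general unitary group (helper7)

A unitary matrix `g` (`g τ(g)ᵀ = 1`) of `σ`-norm one is `P σ(P)⁻¹` with `P` unitary.
-/

set_option autoImplicit false

namespace Cfsg.Agent.Lib.H7AutPSU

open Matrix Cfsg.Agent.Lib.H7AutPSL Cfsg.Agent.Lib.H7AutPSp

universe u

variable {F : Type u} [Field F] {n : ℕ}

theorem map_mulU (σ : RingAut F) (A B : Matrix (Fin n) (Fin n) F) :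
    (A * B).map σ = A.map σ * B.map σ := by
  ext i j
  simp only [Matrix.map_apply, Matrix.mul_apply, map_sum, map_mul]

theorem map_map_comm (σ τ : RingAut F) (hc : ∀ t, σ (τ t) = τ (σ t))
    (M : Matrix (Fin n) (Fin n) F) : (M.map τ).map σ = (M.map σ).map τ := by
  ext i j
  exact hc (M i j)

theorem map_map_sq (τ : RingAut F) (hτ2 : τ ^ 2 = 1) (M : Matrix (Fin n) (Fin n) F) :
    (M.map τ).map τ = M := by
  ext i j
  exact aut_sq_apply τ hτ2 (M i j)

/-- **Hilbert 90 for the unitary group** -/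
theorem gu_hilbert90 [Finite F] (σ τ : RingAut F) (hc : ∀ t, σ (τ t) = τ (σ t)) (r : ℕ)
    (hr : 0 < r) (hσ : σ ^ r = 1) (hinj : ∀ i j, i < r → j < r → σ ^ i = σ ^ j → i = j)
    (hτ2 : τ ^ 2 = 1) (hθ : ∃ θ : F, σ θ = θ ∧ τ θ ≠ θ)
    (g : Matrix (Fin n) (Fin n) F) (hg : g * (g.map τ)ᵀ = 1) (hN : pnorm σ g r = 1) :
    ∃ P : Matrix (Fin n) (Fin n) F, P * (P.map τ)ᵀ = 1 ∧ g * P.map σ = P := by
  classical
  obtain ⟨P₀, hP₀u, hP₀⟩ := hilbert90_matrix σ r hr hσ hinj g hN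
  have hg' : (g.map τ)ᵀ * g = 1 := _root_.mul_eq_one_comm.1 hg
  obtain ⟨H, hHdef⟩ : ∃ H, H = (P₀.map τ)ᵀ * P₀ := ⟨_, rfl⟩
  have hHσ : H.map σ = H := by
    have e1 : H.map σ = ((P₀.map σ).map τ)ᵀ * P₀.map σ := by
      rw [hHdef, map_mulU, Matrix.transpose_map, map_map_comm σ τ hc]
    rw [e1]
    conv_rhs => rw [hHdef, ← hP₀]
    rw [map_mulU, Matrix.transpose_mul]
    calc ((P₀.map σ).map τ)ᵀ * P₀.map σ
        = ((P₀.map σ).map τ)ᵀ * 1 * P₀.map σ := by rw [Matrix.mul_one]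
      _ = _ := by rw [← hg']; simp only [Matrix.mul_assoc]
  have hHherm : H = (H.map τ)ᵀ := by
    rw [hHdef, map_mulU, Matrix.transpose_map, map_map_sq τ hτ2, Matrix.transpose_mul,
      Matrix.transpose_transpose]
  have hP₀τu : IsUnit (P₀.map τ)ᵀ := by
    rw [Matrix.isUnit_transpose]
    have : P₀.map τ = (τ : F →+* F).mapMatrix P₀ := rfl
    rw [this]
    exact hP₀u.map _
  have hHu : IsUnit H := by
    rw [hHdef]
    exact hP₀τu.mul hP₀u
  -- descend to the fixed field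
  have hτK2 := resAut_sq σ τ hc hτ2
  have hτK1 := resAut_ne_one σ τ hc hθ
  have hfixH : ∀ i j, H i j ∈ FixK σ := by
    intro i j
    rw [mem_fixed_iff]
    have := congrFun (congrFun hHσ i) j
    rw [Matrix.map_apply] at this
    exact this
  let H₀ : Matrix (Fin n) (Fin n) (FixK σ) := fun i j => ⟨H i j, hfixH i j⟩
  have hH₀map : H₀.map (FixK σ).subtype = H := by
    ext i j
    rfl
  have hH₀herm : H₀ = (H₀.map (resAut σ τ hc))ᵀ := by
    ext i j
    have := congrFun (congrFun hHherm i) j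
    exact this
  have hH₀u : IsUnit H₀ := by
    rw [Matrix.isUnit_iff_isUnit_det]
    apply IsUnit.mk0
    intro h0
    have h1 : H.det = 0 := by
      rw [← hH₀map, ← RingHom.mapMatrix_apply, ← RingHom.map_det, h0, map_zero]
    exact ((Matrix.isUnit_iff_isUnit_det _).1 hHu).ne_zero h1
  obtain ⟨Q₀, hQ₀u, hQ₀⟩ := hermitian_matrix (resAut σ τ hc) hτK2 hτK1 H₀ hH₀u hH₀herm
  obtain ⟨Q, hQdef⟩ : ∃ Q, Q = Q₀.map (FixK σ).subtype := ⟨_, rfl⟩
  have hQσ : Q.map σ = Q := by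
    ext i j
    rw [hQdef, Matrix.map_apply, Matrix.map_apply]
    exact (mem_fixed_iff σ _).1 (Q₀ i j).2
  have hQτ : (Q₀.map (resAut σ τ hc)).map (FixK σ).subtype = Q.map τ := by
    ext i j
    rw [hQdef]
    rfl
  have hQ : Q * H * (Q.map τ)ᵀ = 1 := by
    have := congrArg (fun M => M.map (FixK σ).subtype) hQ₀
    simp only [Matrix.map_mul, Matrix.transpose_map, hH₀map, hQτ] at this
    rw [hQdef]
    rw [hQdef] at this
    simpa using this
  have hQτσ : ((Q.map τ)ᵀ).map σ = (Q.map τ)ᵀ := by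
    ext i j
    rw [Matrix.map_apply, Matrix.transpose_apply, Matrix.map_apply, hc]
    congr 1
    have := congrFun (congrFun hQσ j) i
    rw [Matrix.map_apply] at this
    exact this
  refine ⟨P₀ * (Q.map τ)ᵀ, ?_, ?_⟩
  · apply _root_.mul_eq_one_comm.1
    rw [map_mulU, Matrix.transpose_map, map_map_sq τ hτ2, Matrix.transpose_mul,
      Matrix.transpose_transpose]
    calc Q * (P₀.map τ)ᵀ * (P₀ * (Q.map τ)ᵀ) = Q * ((P₀.map τ)ᵀ * P₀) * (Q.map τ)ᵀ := by
          simp only [Matrix.mul_assoc]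
      _ = 1 := by rw [← hHdef, hQ]
  · rw [map_mulU, hQτσ, ← Matrix.mul_assoc, hP₀]

end Cfsg.Agent.Lib.H7AutPSU
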