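import Cfsg.Agent.Lib.Helper7.AutPSU.FieldPGU
import Cfsg.Agent.S2602
import Cfsg.Agent.S2690
import Mathlib

/-!
# Field automorphisms of prime order of `PSU_n(q)`: centraliser and class count (helper7)

Everything is conditional on the factorisation `FacU` of the automorphism group (S2692).
-/

set_option autoImplicit false
set_option linter.unusedSectionVars false

namespace Cfsg.Agent.Lib.H7AutPSU

open Matrix Cfsg Cfsg.Agent.Lib.H7AutPSL Cfsg.Agent.Lib.H7AutPSp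

universe u v

variable {n : ℕ} {F : Type u} [Field F] [Fintype F] {q : ℕ}

/-- **the centraliser and class count of a field automorphism of odd prime order of `PSU_n(q)`** -/
theorem field_main_U (hfac : FacU n F q) {p f : ℕ} [Fact p.Prime] (hq : q = p ^ f) (hf : 1 ≤ f)
    (hF : Fintype.card F = q ^ 2) (hn : 3 ≤ n) (hs : ¬ (n = 3 ∧ q = 2))
    (x : MulAut (Cfsg.PSU n F q)) (hx : Cfsg.IsFieldAutClassPSU x) {r : ℕ} (hr : r.Prime)
    (hro : Odd r) (hxr : orderOf x = r) (F₀ : Type v) [Field F₀] [Fintype F₀]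
    (hF₀ : Fintype.card F₀ = p ^ (2 * (f / r))) :
    r ∣ f ∧ Nonempty (↥(Cfsg.inndiagPSU n F q ⊓ Subgroup.centralizer {x}) ≃*
        Cfsg.PGU n F₀ (p ^ (f / r))) ∧
      Cfsg.splitClassCount (Cfsg.inndiagPSU n F q) (Cfsg.Inn (Cfsg.PSU n F q)) x =
        Nat.gcd n ((q + 1) / (p ^ (f / r) + 1)) := by
  have hD := DhU_range_normal hfac
  obtain ⟨α, σ, hσ1, -, hα⟩ := field_data_U x hx
  have := Fact.mk hr
  have hPr : (PhU σ : MulAut (PSUn n F q)) ^ r = 1 := by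
    rw [← hα, ← MulAut.conj_apply, ← map_pow, ← hxr, pow_orderOf_eq_one, map_one]
  have hσ : σ ^ r = 1 := by
    apply PhU_injective hF hn hs
    rw [map_pow, hPr, map_one]
  have hσr : orderOf σ = r := orderOf_eq_prime hσ hσ1
  have hinj : ∀ i j, i < r → j < r → σ ^ i = σ ^ j → i = j := by
    intro i j hi hj hij
    rw [← hσr] at hi hj
    exact pow_injOn_Iio_orderOf (Set.mem_Iio.2 hi) (Set.mem_Iio.2 hj) hij
  -- `r ∣ f`
  have hF' : Fintype.card F = p ^ (2 * f) := by rw [hF, hq, ← pow_mul, mul_comm]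
  have hchar := Cfsg.Agent.S2690.charP_of_card_pow p (2 * f) hF'
  have hrf2 : r ∣ 2 * f := by
    have h1 := (Cfsg.Agent.S2602.ringAut_cyclic (F := F) p (2 * f) hF').2
    rw [← hσr, ← h1]
    exact orderOf_dvd_natCard σ
  have hrf : r ∣ f := (Nat.Coprime.dvd_of_dvd_mul_left (Nat.coprime_two_right.2 hro) hrf2)
  have hdiv : 2 * f / r = 2 * (f / r) := Nat.mul_div_assoc 2 hrf
  obtain ⟨-, ι, hι⟩ := exists_fixed_embedding p (2 * f) hF' σ r hr.pos hσr F₀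
    (by rw [hF₀, hdiv])
  -- Frobenius maps
  obtain ⟨q₀, hq₀⟩ : ∃ q₀, q₀ = p ^ (f / r) := ⟨_, rfl⟩
  have hF₀' : Fintype.card F₀ = q₀ ^ 2 := by rw [hF₀, hq₀, ← pow_mul, mul_comm]
  have hqq₀ : q = q₀ ^ r := by
    rw [hq, hq₀, ← pow_mul, Nat.div_mul_cancel hrf]
  obtain ⟨τ, hτ, hτ2, hτ1⟩ := exists_frobAut hF
  obtain ⟨τ₀, hτ₀, -, -⟩ := exists_frobAut hF₀'
  have hιτ : ∀ s, ι (s ^ q₀) = (ι s) ^ q := iota_frob hF₀' r hro hqq₀ ι
  have hθ := exists_fixed_not_fixed σ τ (frob_comm σ τ hτ) r hro hσr hτ2 hτ1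
  rw [inndiagPSU_eq, ← hq₀]
  refine ⟨hrf, ?_, ?_⟩
  · obtain ⟨e⟩ := nonempty_cent_field_equiv_U hF hn hs σ ι hι τ₀ hτ₀ τ hτ hιτ hτ2 r hr.pos hσ
      hinj hθ
    exact ⟨((centralizerConjEquiv _ α x).trans
      (MulEquiv.subgroupCongr (by rw [hα]))).trans e⟩
  · rw [← splitClassCount_conj _ (Cfsg.Inn (PSUn n F q)) inn_le_DhU_range α x, hα,
      splitClassCount_field_U hF hn hs σ τ hτ hτ2 r hr.pos hσ hinj hθ q₀
        (card_fixN1 hF₀' σ ι hι hιτ)]

end Cfsg.Agent.Lib.H7AutPSU
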