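import Cfsg.Agent.Lib.Helper7.AutPSU.FixedSub
import Cfsg.Agent.Lib.Helper7.AutPSL.GraphFieldCent
import Cfsg.Agent.Lib.Helper7.AutPSL.Hermitian
import Mathlib

/-!
# Norm-one elements and Hilbert 90 for the unitary group (helper7)

`τ` is the involution of the finite field `F` defining the unitary group, `σ` a commuting automorphism of
order `r` whose fixed field is not fixed by `τ`.  The norm of `σ` maps the `τ`-norm-one elements onto the
`τ`-norm-one elements of the fixed field, its kernel consists of the `ν / σ ν`, and a unitary matrix of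
`σ`-norm one is `P σ(P)⁻¹` with `P` unitary.
-/

set_option autoImplicit false

namespace Cfsg.Agent.Lib.H7AutPSU

open Matrix Cfsg.Agent.Lib.H7AutPSL Cfsg.Agent.Lib.H7AutPSp

universe u

variable {F : Type u} [Field F]

theorem fnorm_comm (σ τ : RingAut F) (hc : ∀ t, σ (τ t) = τ (σ t)) (b : F) (k : ℕ) :
    fnorm σ (τ b) k = τ (fnorm σ b k) := by
  have hpow : ∀ i : ℕ, ∀ t, (σ ^ i) (τ t) = τ ((σ ^ i) t) := by
    intro i
    induction i with
    | zero => intro t; rfl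
    | succ i ih =>
      intro t
      rw [pow_succ, RingAut.mul_apply, RingAut.mul_apply, hc, ih]
  unfold fnorm
  rw [map_prod]
  apply Finset.prod_congr rfl
  intro i _
  exact hpow i b

theorem fnorm_div (σ : RingAut F) (a b : F) (k : ℕ) :
    fnorm σ (a / b) k = fnorm σ a k / fnorm σ b k := by
  rw [div_eq_mul_inv, fnorm_mul, fnorm_inv, div_eq_mul_inv]

section finite

variable [Finite F] (σ τ : RingAut F) (hc : ∀ t, σ (τ t) = τ (σ t)) (r : ℕ) (hr : 0 < r)
  (hσ : σ ^ r = 1) (hinj : ∀ i j, i < r → j < r → σ ^ i = σ ^ j → i = j) (hτ2 : τ ^ 2 = 1)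
  (hθ : ∃ θ : F, σ θ = θ ∧ τ θ ≠ θ)

omit [Finite F] in
include hc hτ2 hθ in
/-- Hilbert 90 for `τ` inside the fixed field of `σ` -/
theorem exists_fixed_lang (μ : F) (hμσ : σ μ = μ) (hμ : μ * τ μ = 1) :
    ∃ t : F, t ≠ 0 ∧ σ t = t ∧ μ * τ t = t := by
  have hτK2 := resAut_sq σ τ hc hτ2
  have hτK1 := resAut_ne_one σ τ hc hθ
  obtain ⟨b, hb0, hb⟩ := hilbert90_field (resAut σ τ hc) 2 (by norm_num) hτK2 (two_inj hτK1)
    (⟨μ, (mem_fixed_iff σ μ).2 hμσ⟩ : FixK σ) (by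
      rw [fnorm_two]
      apply Subtype.ext
      exact hμ)
  refine ⟨b.1, fun h => hb0 (Subtype.ext h), (mem_fixed_iff σ _).1 b.2, ?_⟩
  exact congrArg Subtype.val hb

include hc hτ2 hθ in
/-- the norm of `τ` from the fixed field of `σ` onto the common fixed field is surjective -/
theorem exists_fixed_norm (e : F) (he0 : e ≠ 0) (heσ : σ e = e) (heτ : τ e = e) :
    ∃ c : F, c ≠ 0 ∧ σ c = c ∧ c * τ c = e := by
  have hτK2 := resAut_sq σ τ hc hτ2
  have hτK1 := resAut_ne_one σ τ hc hθ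
  obtain ⟨c, hc0, hcc⟩ := norm_surj (resAut σ τ hc) 2 (by norm_num) hτK2 (two_inj hτK1)
    (⟨e, (mem_fixed_iff σ e).2 heσ⟩ : FixK σ) (fun h => he0 (congrArg Subtype.val h))
    (Subtype.ext heτ)
  rw [fnorm_two] at hcc
  exact ⟨c.1, fun h => hc0 (Subtype.ext h), (mem_fixed_iff σ _).1 c.2, congrArg Subtype.val hcc⟩

omit [Finite F] in
include hτ2 in
theorem tau_tau (t : F) : τ (τ t) = t := aut_sq_apply τ hτ2 t

include hc hr hσ hinj hτ2 hθ in
/-- **the norm maps norm-one elements onto the norm-one elements of the fixed field** -/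
theorem norm_one_surj (μ : F) (hμσ : σ μ = μ) (hμ : μ * τ μ = 1) :
    ∃ l : F, l * τ l = 1 ∧ fnorm σ l r = μ := by
  obtain ⟨t, ht0, htσ, ht⟩ := exists_fixed_lang σ τ hc hτ2 hθ μ hμσ hμ
  obtain ⟨b, hb0, hb⟩ := norm_surj σ r hr hσ hinj t ht0 htσ
  have hτb0 : τ b ≠ 0 := (map_ne_zero _).2 hb0
  have hτt0 : τ t ≠ 0 := (map_ne_zero _).2 ht0
  refine ⟨b / τ b, ?_, ?_⟩
  · rw [map_div₀, tau_tau τ hτ2]
    field_simp
  · rw [fnorm_div, fnorm_comm σ τ hc, hb]
    rw [div_eq_iff hτt0]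
    exact ht.symm

include hc hr hσ hinj hτ2 hθ in
/-- **the kernel of the norm on norm-one elements** -/
theorem norm_one_ker (l : F) (hl : l * τ l = 1) (hN : fnorm σ l r = 1) :
    ∃ ν : F, ν * τ ν = 1 ∧ l * σ ν = ν := by
  obtain ⟨b, hb0, hb⟩ := hilbert90_field σ r hr hσ hinj l hN
  have hl0 : l ≠ 0 := by
    rintro rfl
    rw [zero_mul] at hl
    exact zero_ne_one hl
  have hτb0 : τ b ≠ 0 := (map_ne_zero _).2 hb0
  have hσb : σ b = b / l := by
    rw [eq_div_iff hl0, mul_comm]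
    exact hb
  obtain ⟨e, hedef⟩ : ∃ e, e = b * τ b := ⟨_, rfl⟩
  have he0 : e ≠ 0 := by rw [hedef]; exact mul_ne_zero hb0 hτb0
  have heσ : σ e = e := by
    rw [hedef, map_mul, hc, hσb, map_div₀]
    have hτl0 : τ l ≠ 0 := (map_ne_zero _).2 hl0
    have : l * τ l = 1 := hl
    field_simp
    exact this.symm
  have heτ : τ e = e := by
    rw [hedef, map_mul, tau_tau τ hτ2, mul_comm]
  obtain ⟨c, hc0, hcσ, hcc⟩ := exists_fixed_norm σ τ hc hτ2 hθ e⁻¹ (inv_ne_zero he0)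
    (by rw [map_inv₀, heσ]) (by rw [map_inv₀, heτ])
  refine ⟨b * c, ?_, ?_⟩
  · rw [map_mul]
    calc b * c * (τ b * τ c) = (b * τ b) * (c * τ c) := by ring
      _ = 1 := by rw [← hedef, hcc, mul_inv_cancel₀ he0]
  · rw [map_mul, hcσ, ← mul_assoc, hb]

end finite

end Cfsg.Agent.Lib.H7AutPSU
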