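import Cfsg.Agent.Lib.Helper7.AutPSU.CountU
import Cfsg.Agent.Lib.Lead.AutPSLCountD
import Mathlib

/-!
# The structure of `Out(PSU_n(q))`, conditional on the factorisation (helper7)
-/

set_option autoImplicit false
set_option linter.unusedSectionVars false

namespace Cfsg.Agent.Lib.H7AutPSU

open Matrix Cfsg Cfsg.Agent.Lib.H7AutPSL Cfsg.Agent.Lib.H7AutPSp Cfsg.Agent.S0278 Cfsg.Agent.S0783
  Cfsg.Agent.AutPSLCount

universe u

variable {n : ℕ} {F : Type u} [Field F] [Fintype F] {q : ℕ}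

/-- `diag(a, 1, …, 1)` for `a` of norm one, as a homomorphism into `GU` -/
noncomputable def dgHomU (i0 : Fin n) : ↥(N1 F q) →* ↥(Cfsg.GU n F q) :=
  ((dgHom n F i0).comp (N1 F q).subtype).codRestrict (Cfsg.GU n F q) (fun a => by
    rw [mem_GU_iff_form]
    show ∀ u v, Cfsg.hermForm n F q ((dgHom n F i0 (a : Fˣ)).val *ᵥ u)
      ((dgHom n F i0 (a : Fˣ)).val *ᵥ v) = _
    rw [dgHom_val]
    apply Cfsg.Agent.S0279.diag_pres
    intro k
    rw [Pi.mulSingle_apply]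
    split_ifs
    · exact (mem_N1 _).1 a.2
    · exact one_pow _)

theorem dgHomU_val (i0 : Fin n) (a : ↥(N1 F q)) :
    (dgHomU i0 a : ↥(Cfsg.GU n F q)).1.val = diagonal (Pi.mulSingle i0 ((a : Fˣ) : F)) := rfl

theorem detN1_dgHomU (hF : Fintype.card F = q ^ 2) (i0 : Fin n) (a : ↥(N1 F q)) :
    detN1 hF n (dgHomU i0 a) = a := by
  apply Subtype.ext
  apply Units.ext
  rw [detN1_val, dgHomU_val, det_diagonal]
  exact Fintype.prod_pi_mulSingle' i0 ((a : Fˣ) : F)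

theorem detN1_scalarGU (hF : Fintype.card F = q ^ 2) (c : ↥(N1 F q)) :
    detN1 hF n (scalarGU n c.1 c.2) = c ^ n := by
  apply Subtype.ext
  have := det_scalarGU (F := F) (q := q) n c.1 c.2
  exact this

theorem DhU_scalarGU (hF : Fintype.card F = q ^ 2) (hn : 3 ≤ n) (hs : ¬ (n = 3 ∧ q = 2))
    (c : ↥(N1 F q)) : (DhU (scalarGU n c.1 c.2) : MulAut (PSUn n F q)) = 1 :=
  (DhU_eq_one_iff hF hn hs _).2 ⟨c.1, rfl⟩

/-- `a ↦` the class of the diagonal automorphism attached to `diag(a, 1, …, 1)` -/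
noncomputable def epsHomU (i0 : Fin n) : ↥(N1 F q) →* Cfsg.Out (PSUn n F q) :=
  (QuotientGroup.mk' (Cfsg.Inn (PSUn n F q))).comp (DhU.comp (dgHomU i0))

theorem epsHomU_apply (i0 : Fin n) (a : ↥(N1 F q)) :
    epsHomU i0 a = (QuotientGroup.mk (DhU (dgHomU i0 a)) : Cfsg.Out (PSUn n F q)) := rfl

theorem epsHomU_ker (hF : Fintype.card F = q ^ 2) (hn : 3 ≤ n) (hs : ¬ (n = 3 ∧ q = 2))
    (i0 : Fin n) :
    (epsHomU i0 : ↥(N1 F q) →* Cfsg.Out (PSUn n F q)).ker =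
      (powMonoidHom n : ↥(N1 F q) →* ↥(N1 F q)).range := by
  obtain ⟨τ, hτ, hτ2, hτ1⟩ := exists_frobAut hF
  ext a
  rw [MonoidHom.mem_ker, MonoidHom.mem_range, epsHomU_apply, QuotientGroup.eq_one_iff]
  constructor
  · rintro ⟨x, hx⟩
    obtain ⟨s, rfl⟩ := prC_surjective x
    rw [← DhU_toGU] at hx
    have h1 : (DhU ((toGU s)⁻¹ * dgHomU i0 a) : MulAut (PSUn n F q)) = 1 := by
      rw [map_mul, map_inv, hx, inv_mul_cancel]
    obtain ⟨c, hc⟩ := (DhU_eq_one_iff hF hn hs _).1 h1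
    have h2 := GU_mul_transpose τ hτ ((toGU s)⁻¹ * dgHomU i0 a)
    rw [hc, map_smulU, map_oneU, Matrix.transpose_smul, Matrix.transpose_one, Matrix.smul_mul,
      Matrix.mul_smul, Matrix.one_mul, smul_smul] at h2
    have h3 := congrFun (congrFun h2 ⟨0, by omega⟩) ⟨0, by omega⟩
    rw [Matrix.smul_apply, Matrix.one_apply_eq, smul_eq_mul, mul_one] at h3
    have hc1 : c ∈ N1 F q := (mem_N1 c).2 ((norm_one_iff τ hτ _).1 h3)
    refine ⟨⟨c, hc1⟩, ?_⟩
    have h4 : (toGU s)⁻¹ * dgHomU i0 a = scalarGU n c hc1 := gu_ext hc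
    have h5 := congrArg (detN1 hF n) h4
    rw [map_mul, map_inv, detN1_toGU, inv_one, one_mul, detN1_dgHomU,
      detN1_scalarGU hF ⟨c, hc1⟩] at h5
    rw [powMonoidHom_apply]
    exact h5.symm
  · rintro ⟨c, rfl⟩
    rw [powMonoidHom_apply]
    have hk : dgHomU i0 (c ^ n) * (scalarGU n c.1 c.2)⁻¹ ∈
        (detN1 hF n : ↥(Cfsg.GU n F q) →* ↥(N1 F q)).ker := by
      rw [MonoidHom.mem_ker, map_mul, map_inv, detN1_dgHomU, detN1_scalarGU, mul_inv_cancel]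
    obtain ⟨s, hs'⟩ := ker_detN1_le hF _ hk
    refine ⟨prC s, ?_⟩
    rw [← DhU_toGU, hs', map_mul, map_inv, DhU_scalarGU hF hn hs, inv_one, mul_one]

/-- the projection `Out → Aut / Inndiag` -/
noncomputable def q1U [((DhU : ↥(Cfsg.GU n F q) →* MulAut (PSUn n F q)).range).Normal] :
    Cfsg.Out (PSUn n F q) →*
      MulAut (PSUn n F q) ⧸ (DhU : ↥(Cfsg.GU n F q) →* MulAut (PSUn n F q)).range :=
  QuotientGroup.map _ _ (MonoidHom.id _) (fun _ hx => inn_le_DhU_range hx)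

theorem q1U_mk [((DhU : ↥(Cfsg.GU n F q) →* MulAut (PSUn n F q)).range).Normal]
    (β : MulAut (PSUn n F q)) :
    q1U (QuotientGroup.mk β : Cfsg.Out (PSUn n F q)) = QuotientGroup.mk β := rfl

theorem q1U_surjective [((DhU : ↥(Cfsg.GU n F q) →* MulAut (PSUn n F q)).range).Normal] :
    Function.Surjective (q1U (n := n) (F := F) (q := q)) := by
  intro y
  obtain ⟨β, rfl⟩ := QuotientGroup.mk_surjective y
  exact ⟨QuotientGroup.mk β, rfl⟩

theorem q1U_ker [((DhU : ↥(Cfsg.GU n F q) →* MulAut (PSUn n F q)).range).Normal]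
    (hF : Fintype.card F = q ^ 2) (i0 : Fin n) :
    (q1U (n := n) (F := F) (q := q)).ker = (epsHomU i0).range := by
  ext x
  obtain ⟨β, rfl⟩ := QuotientGroup.mk_surjective x
  rw [MonoidHom.mem_ker, q1U_mk, QuotientGroup.eq_one_iff]
  constructor
  · rintro ⟨g, rfl⟩
    have hk : (dgHomU i0 (detN1 hF n g))⁻¹ * g ∈
        (detN1 hF n : ↥(Cfsg.GU n F q) →* ↥(N1 F q)).ker := by
      rw [MonoidHom.mem_ker, map_mul, map_inv, detN1_dgHomU, inv_mul_cancel]
    obtain ⟨s, hs'⟩ := ker_detN1_le hF _ hk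
    refine ⟨detN1 hF n g, ?_⟩
    rw [epsHomU_apply, QuotientGroup.eq]
    refine ⟨prC s, ?_⟩
    rw [← DhU_toGU, hs', map_mul, map_inv]
  · rintro ⟨t, ht⟩
    rw [epsHomU_apply] at ht
    have h1 := QuotientGroup.eq.1 ht
    have h2 := inn_le_DhU_range h1
    have h3 : DhU (dgHomU i0 t) ∈ (DhU : ↥(Cfsg.GU n F q) →* MulAut (PSUn n F q)).range :=
      ⟨_, rfl⟩
    have := Subgroup.mul_mem _ h3 h2
    rwa [mul_inv_cancel_left] at this

/-- **S2603, conditional on the factorisation** -/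
theorem out_structure_U (hfac : FacU n F q) {p f : ℕ} [Fact p.Prime] (hq : q = p ^ f)
    (hF : Fintype.card F = q ^ 2) (hn : 3 ≤ n) (hs : ¬ (n = 3 ∧ q = 2)) :
    ∃ φ : Cfsg.Out (Cfsg.PSU n F q) →* Multiplicative (ZMod (2 * f)),
      Function.Surjective φ ∧ IsCyclic φ.ker ∧ Nat.card φ.ker = Nat.gcd n (q + 1) := by
  classical
  have hD := DhU_range_normal hfac
  have hF' : Fintype.card F = p ^ (2 * f) := by rw [hF, hq, ← pow_mul, mul_comm]
  have hchar := Cfsg.Agent.S2690.charP_of_card_pow p (2 * f) hF'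
  obtain ⟨hcyc, hcard⟩ := Cfsg.Agent.S2602.ringAut_cyclic (F := F) p (2 * f) hF'
  obtain ⟨e2⟩ : Nonempty (RingAut F ≃* Multiplicative (ZMod (2 * f))) := by
    rw [← hcard]
    exact ⟨(zmodCyclicMulEquiv hcyc).symm⟩
  let e1 := splitEquiv (DhU : ↥(Cfsg.GU n F q) →* MulAut (PSUn n F q)).range
    (PhU : RingAut F →* MulAut (PSUn n F q))
    (by
      intro β
      obtain ⟨g, σ, rfl⟩ := hfac β
      exact ⟨DhU g, ⟨g, rfl⟩, σ, rfl⟩)
    (fun σ hσ => eq_one_of_PhU_mem_range hF hn hs σ hσ)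
  let e := e1.symm.trans e2
  let i0 : Fin n := ⟨0, by omega⟩
  refine ⟨(e : (MulAut (PSUn n F q) ⧸ (DhU : ↥(Cfsg.GU n F q) →* MulAut (PSUn n F q)).range) →*
      Multiplicative (ZMod (2 * f))).comp q1U, e.surjective.comp q1U_surjective, ?_⟩
  rw [MonoidHom.ker_mulEquiv_comp, q1U_ker hF i0]
  constructor
  · exact isCyclic_of_surjective (epsHomU i0).rangeRestrict (epsHomU i0).rangeRestrict_surjective
  · rw [← Subgroup.index_ker, epsHomU_ker hF hn hs, IsCyclic.index_powMonoidHom_range, card_N1 hF,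
      Nat.gcd_comm]

end Cfsg.Agent.Lib.H7AutPSU
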