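import Cfsg.Agent.Lib.Helper7.AutPSU.MainU
import Mathlib

/-!
# Standard field automorphisms of `PSU_n(q)` are not inner-diagonal (helper7)

If `PhU σ = DhU g` then `σ = 1` (`n ≥ 3`): compare the eigenvalues of diagonal special unitary matrices.
Consequently, under the factorisation `FacU`, `Aut(PSU_n(q)) = Inndiag ⋊ Aut(F)`.
-/

set_option autoImplicit false
set_option linter.unusedSectionVars false

namespace Cfsg.Agent.Lib.H7AutPSU

open Matrix Cfsg Cfsg.Agent.Lib.H7AutPSL Cfsg.Agent.Lib.H7AutPSp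

universe u

variable {n : ℕ} {F : Type u} [Field F] {q : ℕ}

/-- if `σ(D)` is conjugate to the diagonal matrix `D`, the entries of `σ(D)` are entries of `D` -/
theorem exists_eq_of_conj (σ : RingAut F) (d : Fin n → F) (g : GL (Fin n) F)
    (h : (Matrix.diagonal d).map σ = g.val * Matrix.diagonal d * g⁻¹.val) (i : Fin n) :
    ∃ j, σ (d i) = d j := by
  classical
  obtain ⟨c, hc⟩ : ∃ c, c = σ (d i) := ⟨_, rfl⟩
  have h1 : (Matrix.diagonal d).map σ = Matrix.diagonal (fun j => σ (d j)) :=
    Matrix.diagonal_map (map_zero σ)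
  have h2 : (Matrix.diagonal (fun j => c - σ (d j))).det = 0 := by
    rw [Matrix.det_diagonal]
    apply Finset.prod_eq_zero (Finset.mem_univ i)
    rw [hc, sub_self]
  have h3 : Matrix.diagonal (fun j => c - σ (d j)) =
      g.val * Matrix.diagonal (fun j => c - d j) * g⁻¹.val := by
    have e1 : Matrix.diagonal (fun j => c - σ (d j)) =
        c • (1 : Matrix (Fin n) (Fin n) F) - Matrix.diagonal (fun j => σ (d j)) := by
      ext a b
      rw [Matrix.sub_apply, Matrix.smul_apply, Matrix.one_apply, Matrix.diagonal_apply,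
        Matrix.diagonal_apply]
      split_ifs <;> simp
    have e2 : Matrix.diagonal (fun j => c - d j) =
        c • (1 : Matrix (Fin n) (Fin n) F) - Matrix.diagonal d := by
      ext a b
      rw [Matrix.sub_apply, Matrix.smul_apply, Matrix.one_apply, Matrix.diagonal_apply,
        Matrix.diagonal_apply]
      split_ifs <;> simp
    rw [e1, e2, ← h1, h, Matrix.mul_sub, Matrix.sub_mul, Matrix.mul_smul, Matrix.smul_mul,
      Matrix.mul_one, ← Units.val_mul, mul_inv_cancel, Units.val_one]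
  rw [h3, Matrix.det_units_conj, Matrix.det_diagonal, Finset.prod_eq_zero_iff] at h2
  obtain ⟨j, -, hj⟩ := h2
  exact ⟨j, by rw [← hc]; exact sub_eq_zero.1 hj⟩

section finite

variable [Fintype F]

/-- the diagonal special unitary matrix with `a` at `i` and `a⁻¹` at `j` -/
theorem exists_dgPair (i j : Fin n) (hij : i ≠ j) (a : F) (ha : a ^ (q + 1) = 1) :
    ∃ s : SUn n F q, s.1.1 =
      Matrix.diagonal (fun k => if k = i then a else if k = j then a⁻¹ else 1) := by
  classical
  have hq : 0 < q + 1 := by omega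
  have ha0 : a ≠ 0 := by
    rintro rfl
    rw [zero_pow (by omega)] at ha
    exact zero_ne_one ha
  obtain ⟨d, hd⟩ : ∃ d : Fin n → F, d = fun k => if k = i then a else if k = j then a⁻¹ else 1 :=
    ⟨_, rfl⟩
  have hdi : d i = a := by simp [hd]
  have hdj : d j = a⁻¹ := by simp [hd, hij.symm]
  have hdn : ∀ k, d k ^ (q + 1) = 1 := by
    intro k
    rw [hd]
    beta_reduce
    split_ifs
    · exact ha
    · rw [inv_pow, ha, inv_one]
    · exact one_pow _
  have hdet : (Matrix.diagonal d).det = 1 := by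
    rw [Matrix.det_diagonal, Finset.prod_eq_mul i j hij, hdi, hdj, mul_inv_cancel₀ ha0]
    · intro k _ hk
      simp [hd, hk.1, hk.2]
    · intro h; exact absurd (Finset.mem_univ _) h
    · intro h; exact absurd (Finset.mem_univ _) h
  rw [← hd]
  exact ⟨⟨(⟨Matrix.diagonal d, hdet⟩ : Matrix.SpecialLinearGroup (Fin n) F),
    Cfsg.Agent.S0279.diag_pres n d hdn⟩, rfl⟩

/-- **a standard field automorphism which is inner-diagonal is trivial** -/
theorem eq_one_of_PhU_eq_DhU (hF : Fintype.card F = q ^ 2) (hn : 3 ≤ n) (hs : ¬ (n = 3 ∧ q = 2))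
    (σ : RingAut F) (g : ↥(Cfsg.GU n F q))
    (h : (PhU σ : MulAut (PSUn n F q)) = DhU g) : σ = 1 := by
  classical
  have h1 : (fieldSU σ : MulAut (SUn n F q)) = conjSU g :=
    liftC_injective_of_perfect (su_perfect hF hn hs) h
  have hconj : ∀ s : SUn n F q, s.1.1.map σ = g.1.val * s.1.1 * g.1⁻¹.val := by
    intro s
    rw [← fieldSU_val, h1]
    rfl
  apply eq_one_of_fix_norm_one hF
  intro ω hω
  have hω0 : ω ≠ 0 := by
    rintro rfl
    rw [zero_pow (by omega)] at hω
    exact zero_ne_one hω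
  let i0 : Fin n := ⟨0, by omega⟩
  let i1 : Fin n := ⟨1, by omega⟩
  let i2 : Fin n := ⟨2, by omega⟩
  have h01 : i0 ≠ i1 := by
    intro h; have := congrArg Fin.val h; simp [i0, i1] at this
  have h02 : i0 ≠ i2 := by
    intro h; have := congrArg Fin.val h; simp [i0, i2] at this
  have h12 : i1 ≠ i2 := by
    intro h; have := congrArg Fin.val h; simp [i1, i2] at this
  -- first matrix: `diag(ω, ω⁻¹, 1, …)`
  obtain ⟨s1, hs1⟩ := exists_dgPair (q := q) i0 i1 h01 ω hω
  have hA : σ ω = ω ∨ σ ω = ω⁻¹ ∨ σ ω = 1 := by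
    have hc := hconj s1
    rw [hs1] at hc
    obtain ⟨j, hj⟩ := exists_eq_of_conj σ _ g.1 hc i0
    simp only [if_true] at hj
    rw [hj]
    by_cases hj0 : j = i0
    · left; simp [hj0]
    · by_cases hj1 : j = i1
      · right; left; simp [hj1, h01.symm]
      · right; right; simp [hj0, hj1]
  -- second matrix: `diag(ω, ω, ω⁻², 1, …)`
  obtain ⟨s2, hs2⟩ := exists_dgPair (q := q) i0 i2 h02 ω hω
  obtain ⟨s3, hs3⟩ := exists_dgPair (q := q) i1 i2 h12 ω hω
  have hB : σ ω = ω ∨ σ ω = ω⁻¹ * ω⁻¹ ∨ σ ω = 1 := by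
    have hc := hconj (s2 * s3)
    rw [su_mul_val, hs2, hs3, Matrix.diagonal_mul_diagonal] at hc
    obtain ⟨j, hj⟩ := exists_eq_of_conj σ _ g.1 hc i0
    simp only [if_true, if_neg h01, if_neg h02, mul_one] at hj
    rw [hj]
    by_cases hj0 : j = i0
    · left; simp [hj0, h01, h02]
    · by_cases hj1 : j = i1
      · left; simp [hj1, h01.symm, h12]
      · by_cases hj2 : j = i2
        · right; left; simp [hj2, h02.symm, h12.symm]
        · right; right; simp [hj0, hj1, hj2]
  have hone : σ ω = 1 → σ ω = ω := by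
    intro h1
    have : ω = 1 := by
      have := congrArg σ.symm h1
      rwa [σ.symm_apply_apply, map_one] at this
    rw [this, map_one]
  rcases hA with hA | hA | hA
  · exact hA
  · rcases hB with hB | hB | hB
    · exact hB
    · have h3 : ω⁻¹ = 1 := by
        have h4 : ω⁻¹ = ω⁻¹ * ω⁻¹ := hA.symm.trans hB
        have h5 : ω⁻¹ ≠ 0 := inv_ne_zero hω0
        have h6 : ω⁻¹ * 1 = ω⁻¹ * ω⁻¹ := by rw [mul_one]; exact h4
        exact (mul_left_cancel₀ h5 h6).symm
      have h4 : ω = 1 := by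
        rw [inv_eq_one] at h3
        exact h3
      rw [h4, map_one]
    · exact hone hB
  · exact hone hA

theorem eq_one_of_PhU_mem_range (hF : Fintype.card F = q ^ 2) (hn : 3 ≤ n)
    (hs : ¬ (n = 3 ∧ q = 2)) (σ : RingAut F)
    (h : (PhU σ : MulAut (PSUn n F q)) ∈
      (DhU : ↥(Cfsg.GU n F q) →* MulAut (PSUn n F q)).range) : σ = 1 := by
  obtain ⟨g, hg⟩ := h
  exact eq_one_of_PhU_eq_DhU hF hn hs σ g hg.symm

end finite

/-- **S2691, conditional on the factorisation** -/
theorem gammaPSU_eq_top (hfac : FacU n F q) : Cfsg.gammaPSU n F q = ⊤ := by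
  rw [eq_top_iff]
  intro β _
  obtain ⟨g, σ, rfl⟩ := hfac β
  unfold Cfsg.gammaPSU Cfsg.autSubgroupOf
  apply Subgroup.subset_closure
  exact ⟨g.1, σ, g.2, (semilinearU_iff g σ _).2 rfl⟩

end Cfsg.Agent.Lib.H7AutPSU
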