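import Cfsg.Agent.Lib.Helper7.AutPSU.CosetMainU
import Cfsg.Agent.Lib.Helper7.AutPSL.SplitPSL
import Mathlib

/-!
# Class splitting in `Inndiag(PSU_n(q))` under `Inn` (helper7)

The number of `Inn`-classes in the `Inndiag`-class of `X` is the index in the group of norm-one elements
of the determinants of the unitary matrices whose inner-diagonal automorphism centralises `X`.
-/

set_option autoImplicit false

namespace Cfsg.Agent.Lib.H7AutPSU

open Matrix Cfsg Cfsg.Agent.Lib.H7AutPSL Cfsg.Agent.Lib.H7AutPSp Cfsg.Agent.S0278 Cfsg.Agent.S0783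

universe u

variable {n : ℕ} {F : Type u} [Field F] {q : ℕ}

/-- special unitary matrices as general unitary matrices -/
def toGU : SUn n F q →* ↥(Cfsg.GU n F q) :=
  (Matrix.SpecialLinearGroup.toGL.comp (Cfsg.SU n F q).subtype).codRestrict (Cfsg.GU n F q)
    (fun s => s.2)

theorem toGU_val (s : SUn n F q) : (toGU s).1.val = s.1.1 := rfl

theorem conjSU_toGU (s : SUn n F q) : conjSU (toGU s) = MulAut.conj s := by
  ext t : 1
  apply su_ext
  rfl

theorem DhU_toGU (s : SUn n F q) :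
    (DhU (toGU s) : MulAut (PSUn n F q)) = MulAut.conj (prC s) := by
  show liftC (conjSU (toGU s)) = _
  rw [conjSU_toGU, liftC_conj]

theorem inn_le_DhU_range :
    Cfsg.Inn (PSUn n F q) ≤ (DhU : ↥(Cfsg.GU n F q) →* MulAut (PSUn n F q)).range := by
  rintro _ ⟨y, rfl⟩
  obtain ⟨s, rfl⟩ := prC_surjective y
  exact ⟨toGU s, DhU_toGU s⟩

/-- the unitary matrices whose inner-diagonal automorphism centralises `X` -/
noncomputable def centGU (X : MulAut (PSUn n F q)) : Subgroup ↥(Cfsg.GU n F q) :=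
  (Subgroup.centralizer {X}).comap DhU

theorem mem_centGU (X : MulAut (PSUn n F q)) (g : ↥(Cfsg.GU n F q)) :
    g ∈ centGU X ↔ DhU g * X = X * DhU g := by
  unfold centGU
  rw [Subgroup.mem_comap, mem_centralizer_singleton]

section finite

variable [Fintype F]

theorem detN1_val (hF : Fintype.card F = q ^ 2) (g : ↥(Cfsg.GU n F q)) :
    (((detN1 hF n g : N1 F q) : Fˣ) : F) = g.1.val.det := rfl

theorem detN1_toGU (hF : Fintype.card F = q ^ 2) (s : SUn n F q) : detN1 hF n (toGU s) = 1 := by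
  apply Subtype.ext
  apply Units.ext
  rw [detN1_val, toGU_val]
  exact s.1.2

theorem ker_detN1_le (hF : Fintype.card F = q ^ 2) (g : ↥(Cfsg.GU n F q))
    (hg : g ∈ (detN1 hF n).ker) : ∃ s : SUn n F q, toGU s = g := by
  have h1 : g.1.val.det = 1 := by
    rw [← detN1_val hF, MonoidHom.mem_ker.1 hg]
    rfl
  refine ⟨⟨(⟨g.1.val, h1⟩ : Matrix.SpecialLinearGroup (Fin n) F), g.2⟩, ?_⟩
  apply Subtype.ext
  apply Units.ext
  rfl

/-- **The class splitting for `PSU_n(q)`.** -/
theorem splitClassCount_psu (hF : Fintype.card F = q ^ 2) (hn : 1 ≤ n) (X : MulAut (PSUn n F q)) :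
    Cfsg.splitClassCount (DhU : ↥(Cfsg.GU n F q) →* MulAut (PSUn n F q)).range
        (Cfsg.Inn (PSUn n F q)) X = ((centGU X).map (detN1 hF n)).index := by
  rw [splitClassCount_eq _ _ inn_le_DhU_range]
  have h1 : ((splitSub (DhU : ↥(Cfsg.GU n F q) →* MulAut (PSUn n F q)).range
      (Cfsg.Inn (PSUn n F q)) X).comap DhU).index =
      (splitSub (DhU : ↥(Cfsg.GU n F q) →* MulAut (PSUn n F q)).range
        (Cfsg.Inn (PSUn n F q)) X).relIndex (DhU : ↥(Cfsg.GU n F q) →* MulAut (PSUn n F q)).range :=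
    Subgroup.index_comap _ DhU
  rw [← h1]
  have hker : (detN1 hF n : ↥(Cfsg.GU n F q) →* N1 F q).ker ≤
      (splitSub (DhU : ↥(Cfsg.GU n F q) →* MulAut (PSUn n F q)).range
        (Cfsg.Inn (PSUn n F q)) X).comap DhU := by
    intro g hg
    obtain ⟨s, rfl⟩ := ker_detN1_le hF g hg
    rw [Subgroup.mem_comap, DhU_toGU]
    exact Subgroup.mem_sup_left ⟨prC s, rfl⟩
  rw [← Subgroup.index_map_eq _ (detN1_surjective hF n hn) hker]
  congr 1
  apply le_antisymm
  · rintro _ ⟨g, hg, rfl⟩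
    rw [SetLike.mem_coe, Subgroup.mem_comap, mem_splitSub_iff] at hg
    obtain ⟨k, ⟨y, rfl⟩, c, hc, e⟩ := hg
    obtain ⟨s, rfl⟩ := prC_surjective y
    have e2 : c = DhU ((toGU s)⁻¹ * g) := by
      rw [map_mul, map_inv, e, DhU_toGU]
      show c = (MulAut.conj (prC s))⁻¹ * (MulAut.conj (prC s) * c)
      rw [inv_mul_cancel_left]
    refine ⟨(toGU s)⁻¹ * g, ?_, ?_⟩
    · rw [SetLike.mem_coe, centGU, Subgroup.mem_comap, ← e2]
      exact (Subgroup.mem_inf.1 hc).2
    · rw [map_mul, map_inv, detN1_toGU, inv_one, one_mul]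
  · apply Subgroup.map_mono
    intro g hg
    rw [Subgroup.mem_comap]
    exact Subgroup.mem_sup_right (Subgroup.mem_inf.2 ⟨⟨g, rfl⟩, hg⟩)

end finite

end Cfsg.Agent.Lib.H7AutPSU
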